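import Cfsg.Prelude.Def_Local
import Cfsg.Prelude.Def_LocalEven
import Cfsg.Agent.Lib.Cores.PCore
import Cfsg.Agent.Lib.CoprimeAction.Basic
import Cfsg.Agent.Lib.CoprimeAction.Abelian
import Cfsg.Agent.Lib.StronglyPEmbedded.CharP
import Cfsg.Agent.Lib.ThompsonJ.ElemAbelian

/-!
Groups of characteristic `{2,p}` type, preparations: local cores, fixed points of `p`-groups on
inverted elements, generation by centralisers, closed subgroups.
-/

set_option autoImplicit false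

namespace CfsgLib.Quasithin.Klinger

open Cfsg CfsgLib.Cores CfsgLib.CoprimeAction CfsgLib.ThompsonJ

universe u

variable {G : Type u} [Group G]

/-- The centraliser of an element. -/
abbrev cz (a : G) : Subgroup G := Subgroup.centralizer ({a} : Set G)

theorem mem_cz {a x : G} : x ∈ cz a ↔ Commute x a := Subgroup.mem_centralizer_singleton_iff

theorem mem_centralizer_iff_commute {T : Subgroup G} {x : G} :
    x ∈ Subgroup.centralizer (T : Set G) ↔ ∀ a ∈ T, Commute a x := Subgroup.mem_centralizer_iff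

theorem commute_conj {x y : G} (g : G) (h : Commute x y) :
    Commute (g * x * g⁻¹) (g * y * g⁻¹) := h.map (MulAut.conj g)

theorem commute_conj_iff {x y : G} (g : G) :
    Commute (g * x * g⁻¹) (g * y * g⁻¹) ↔ Commute x y :=
  ⟨fun h => by
    have := commute_conj g⁻¹ h
    simpa [mul_assoc] using this, commute_conj g⟩

/-- The largest normal `r`-subgroup of the centraliser of `a`, inside `G`. -/
def locCore (r : ℕ) (a : G) : Subgroup G := (pCore r (cz a)).map (cz a).subtype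

/-- The largest normal `2`-subgroup of the normaliser of `S`, inside `G`. -/
def normCore (r : ℕ) (S : Subgroup G) : Subgroup G :=
  (pCore r (Subgroup.normalizer (S : Set G))).map (Subgroup.normalizer (S : Set G)).subtype

theorem normal_map_conj_mem {H : Subgroup G} {N : Subgroup H} [N.Normal] {g x : G} (hg : g ∈ H)
    (hx : x ∈ N.map H.subtype) : g * x * g⁻¹ ∈ N.map H.subtype := by
  obtain ⟨n, hn, rfl⟩ := hx
  exact ⟨⟨g, hg⟩ * n * ⟨g, hg⟩⁻¹, ‹N.Normal›.conj_mem n hn _, rfl⟩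

theorem locCore_le (r : ℕ) (a : G) : locCore r a ≤ cz a := Subgroup.map_subtype_le _

theorem normCore_le (r : ℕ) (S : Subgroup G) : normCore r S ≤ Subgroup.normalizer (S : Set G) :=
  Subgroup.map_subtype_le _

theorem isPGroup_locCore (r : ℕ) (a : G) : IsPGroup r (locCore r a) := (isPGroup_pCore r _).map _

theorem isPGroup_normCore (r : ℕ) (S : Subgroup G) : IsPGroup r (normCore r S) :=
  (isPGroup_pCore r _).map _

theorem le_map_pCore {r : ℕ} {H N : Subgroup G} (hNH : N ≤ H) (hN : IsPGroup r N)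
    (hn : ∀ g ∈ H, ∀ x ∈ N, g * x * g⁻¹ ∈ N) : N ≤ (pCore r H).map H.subtype := by
  haveI : (N.subgroupOf H).Normal := ⟨fun x hx g => hn g g.2 x hx⟩
  have h : N.subgroupOf H ≤ pCore r H := le_pCore hN.comap_subtype
  have := Subgroup.map_mono (f := H.subtype) h
  rwa [Subgroup.map_subgroupOf_eq_of_le hNH] at this

theorem le_normalizer_locCore [Finite G] (r : ℕ) (a : G) :
    cz a ≤ Subgroup.normalizer (locCore r a : Set G) := fun _ hg =>
  mem_normalizer_of_conj_mem fun _ hx => normal_map_conj_mem hg hx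

theorem le_normalizer_normCore [Finite G] (r : ℕ) (S : Subgroup G) :
    Subgroup.normalizer (S : Set G) ≤ Subgroup.normalizer (normCore r S : Set G) := fun _ hg =>
  mem_normalizer_of_conj_mem fun _ hx => normal_map_conj_mem hg hx

theorem mem_normalizer_centralizer_of_forall {T : Subgroup G} {g : G}
    (hg : g ∈ Subgroup.centralizer (T : Set G)) :
    g ∈ Subgroup.normalizer ((Subgroup.centralizer (T : Set G) : Subgroup G) : Set G) :=
  Subgroup.le_normalizer hg

theorem mem_normalizer_inf {H K : Subgroup G} {g : G}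
    (hH : g ∈ Subgroup.normalizer (H : Set G)) (hK : g ∈ Subgroup.normalizer (K : Set G)) :
    g ∈ Subgroup.normalizer ((H ⊓ K : Subgroup G) : Set G) := by
  rw [Subgroup.mem_normalizer_iff] at hH hK ⊢
  intro x
  simp only [Subgroup.mem_inf, ← hH x, ← hK x]

/-- Two commuting involutions. -/
structure InvPair (e f : G) : Prop where
  he : e * e = 1
  hf : f * f = 1
  hne : e ≠ 1
  hnf : f ≠ 1
  hef : e ≠ f
  comm : Commute e f

namespace InvPair

variable {e f : G}

theorem symm (h : InvPair e f) : InvPair f e :=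
  ⟨h.hf, h.he, h.hnf, h.hne, h.hef.symm, h.comm.symm⟩

theorem mul_right (h : InvPair e f) : InvPair e (e * f) := by
  refine ⟨h.he, ?_, h.hne, ?_, ?_, Commute.mul_right rfl h.comm⟩
  · calc e * f * (e * f) = (f * e) * (e * f) := by rw [h.comm.eq]
      _ = f * (e * e) * f := by group
      _ = 1 := by rw [h.he, mul_one, h.hf]
  · intro hh
    exact h.hef (mul_left_cancel (h.he.trans hh.symm))
  · intro hh
    exact h.hnf (mul_left_cancel ((mul_one e).trans hh)).symm

theorem mem_closure (h : InvPair e f) {a : G} (ha : a ∈ Subgroup.closure ({e, f} : Set G)) :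
    a = 1 ∨ a = e ∨ a = f ∨ a = e * f := by
  have he' : ∀ x, e * (e * x) = x := fun x => by rw [← mul_assoc, h.he, one_mul]
  have hf' : ∀ x, f * (f * x) = x := fun x => by rw [← mul_assoc, h.hf, one_mul]
  have hfe : ∀ x, f * (e * x) = e * (f * x) := fun x => by
    rw [← mul_assoc, ← h.comm.eq, mul_assoc]
  induction ha using Subgroup.closure_induction with
  | mem y hy =>
    rcases hy with rfl | rfl <;> simp
  | one => simp
  | mul a b _ _ iha ihb =>
    rcases iha with rfl | rfl | rfl | rfl <;> rcases ihb with rfl | rfl | rfl | rfl <;>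
      simp [mul_assoc, he', hf', hfe, h.he, h.hf, h.comm.eq.symm]
  | inv a _ iha =>
    have e1 : e⁻¹ = e := inv_eq_of_mul_eq_one_right h.he
    have f1 : f⁻¹ = f := inv_eq_of_mul_eq_one_right h.hf
    rcases iha with rfl | rfl | rfl | rfl <;> simp [e1, f1, h.comm.eq.symm]

theorem isMulCommutative (h : InvPair e f) :
    IsMulCommutative (Subgroup.closure ({e, f} : Set G)) := by
  refine Subgroup.isMulCommutative_closure ?_
  rintro x (rfl | rfl) y (rfl | rfl)
  · rfl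
  · exact h.comm.eq
  · exact h.comm.eq.symm
  · rfl

theorem sq_eq_one (h : InvPair e f) {a : G} (ha : a ∈ Subgroup.closure ({e, f} : Set G)) :
    a ^ 2 = 1 := by
  rcases h.mem_closure ha with rfl | rfl | rfl | rfl
  · simp
  · rw [pow_two, h.he]
  · rw [pow_two, h.hf]
  · rw [pow_two, h.mul_right.hf]

theorem not_isCyclic [Finite G] (h : InvPair e f) :
    ¬ IsCyclic (Subgroup.closure ({e, f} : Set G)) := by
  intro hc
  obtain ⟨⟨g, hg⟩, hgen⟩ := IsCyclic.exists_generator (α := Subgroup.closure ({e, f} : Set G))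
  have hz : ∀ a ∈ ({e, f} : Set G), a = 1 ∨ a = g := by
    intro a ha
    obtain ⟨n, hn⟩ := Subgroup.mem_zpowers_iff.1 (hgen ⟨a, Subgroup.subset_closure ha⟩)
    have hn' : g ^ n = a := congrArg Subtype.val hn
    have h2 : g ^ (2 : ℤ) = 1 := by
      have := h.sq_eq_one hg
      exact_mod_cast this
    rcases Int.even_or_odd' n with ⟨m, rfl | rfl⟩
    · left; rw [← hn', zpow_mul, h2, one_zpow]
    · right; rw [← hn', zpow_add, zpow_mul, h2, one_zpow, one_mul, zpow_one]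
  rcases hz e (by simp) with h1 | h1
  · exact h.hne h1
  rcases hz f (by simp) with h2 | h2
  · exact h.hnf h2
  exact h.hef (h1.trans h2.symm)

theorem isPGroup (h : InvPair e f) : IsPGroup 2 (Subgroup.closure ({e, f} : Set G)) :=
  fun a => ⟨1, Subtype.ext (by simpa using h.sq_eq_one a.2)⟩

end InvPair

variable [Finite G] {p : ℕ} [hpF : Fact p.Prime]

theorem coprime_of_sq (hp2 : p ≠ 2) {s : G} (hs : s ^ 2 = 1) : (orderOf s).Coprime p :=
  Nat.Coprime.coprime_dvd_left (orderOf_dvd_of_pow_eq_one hs)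
    ((Nat.coprime_primes Nat.prime_two hpF.out).2 hp2.symm)

theorem card_coprime_of_isPGroup (hp2 : p ≠ 2) {A K : Subgroup G} (hA : IsPGroup 2 A)
    (hK : IsPGroup p K) : (Nat.card A).Coprime (Nat.card K) := by
  haveI : Fact (Nat.Prime 2) := ⟨Nat.prime_two⟩
  exact IsPGroup.coprime_card_of_ne 2 p hp2.symm A K hA hK

theorem eq_one_of_mem_both (hp2 : p ≠ 2) {A K : Subgroup G} (hA : IsPGroup 2 A) (hK : IsPGroup p K)
    {x : G} (h1 : x ∈ A) (h2 : x ∈ K) : x = 1 := by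
  have : x ∈ A ⊓ K := ⟨h1, h2⟩
  rwa [Subgroup.inf_eq_bot_of_coprime (card_coprime_of_isPGroup hp2 hA hK), Subgroup.mem_bot] at this

/-- An element of `O_p(C(a))` centralises every `2`-subgroup of `C(a)` it normalises. -/
theorem commute_of_mem_locCore (hp2 : p ≠ 2) {a x q : G} (hx : x ∈ locCore p a) {X : Subgroup G}
    (hX : IsPGroup 2 X) (hXa : X ≤ cz a) (hxX : x ∈ Subgroup.normalizer (X : Set G)) (hq : q ∈ X) :
    Commute x q := by
  have h1 : x * q * x⁻¹ * q⁻¹ ∈ X := mul_mem (conj_mem hxX hq) (inv_mem hq)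
  have h2 : x * q * x⁻¹ * q⁻¹ ∈ locCore p a := by
    rw [show x * q * x⁻¹ * q⁻¹ = x * (q * x⁻¹ * q⁻¹) by group]
    exact mul_mem hx (conj_mem (le_normalizer_locCore p a (hXa hq)) (inv_mem hx))
  have h3 := eq_one_of_mem_both hp2 hX (isPGroup_locCore p a) h1 h2
  rw [mul_inv_eq_one, mul_inv_eq_iff_eq_mul] at h3
  exact h3

/-- Generation by the centralisers of three involutions. -/
theorem commute_of_pair (hp2 : p ≠ 2) {e f s : G} (h : InvPair e f) {P : Subgroup G}
    (hP : IsPGroup p P) (he : e ∈ Subgroup.normalizer (P : Set G))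
    (hf : f ∈ Subgroup.normalizer (P : Set G))
    (h1 : ∀ q ∈ P, Commute q e → Commute q s) (h2 : ∀ q ∈ P, Commute q f → Commute q s)
    (h3 : ∀ q ∈ P, Commute q (e * f) → Commute q s) {q : G} (hq : q ∈ P) : Commute q s := by
  haveI := h.isMulCommutative
  have hAP : Subgroup.closure ({e, f} : Set G) ≤ Subgroup.normalizer (P : Set G) := by
    rw [Subgroup.closure_le]
    rintro x (rfl | rfl)
    · exact he
    · exact hf
  have hle : P ≤ cz s := le_of_centralizers h.not_isCyclic hAP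
    (card_coprime_of_isPGroup hp2 h.isPGroup hP) fun a ha ha1 x hx => by
      obtain ⟨hxP, hxa⟩ := hx
      have hxa : Commute x a := mem_cz.1 hxa
      rw [mem_cz]
      rcases h.mem_closure ha with rfl | rfl | rfl | rfl
      · exact absurd rfl ha1
      · exact h1 x hxP hxa
      · exact h2 x hxP hxa
      · exact h3 x hxP hxa
  exact mem_cz.1 (hle hq)

/-- If `e` moves something in `P`, it moves something centralised by `f` or by `e * f`. -/
theorem exists_moved (hp2 : p ≠ 2) {e f : G} (h : InvPair e f) {P : Subgroup G}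
    (hP : IsPGroup p P) (he : e ∈ Subgroup.normalizer (P : Set G))
    (hf : f ∈ Subgroup.normalizer (P : Set G)) (hne : ∃ q ∈ P, ¬ Commute q e) :
    ∃ g, (g = f ∨ g = e * f) ∧ ∃ q ∈ P, Commute q g ∧ ¬ Commute q e := by
  by_contra hcon
  push Not at hcon
  obtain ⟨q, hq, hqe⟩ := hne
  exact hqe (commute_of_pair hp2 h hP he hf (fun _ _ h => h)
    (fun q hq h => hcon f (Or.inl rfl) q hq h) (fun q hq h => hcon _ (Or.inr rfl) q hq h) hq)

/-- Inverted elements: powers. -/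
theorem inverted_pow {t x : G} (h : t * x * t⁻¹ = x⁻¹) (n : ℕ) :
    t * x ^ n * t⁻¹ = (x ^ n)⁻¹ := by
  rw [← conj_pow, h, inv_pow]

/-- An element of odd order which is inverted and centralised is trivial. -/
theorem eq_one_of_inverted (hp2 : p ≠ 2) {t x : G} (h : t * x * t⁻¹ = x⁻¹) (hc : Commute x t)
    (hx : ∃ k, x ^ p ^ k = 1) : x = 1 := by
  rw [← hc.eq, mul_inv_cancel_right] at h
  have h2 : x ^ 2 = 1 := by
    rw [pow_two]
    nth_rewrite 2 [h]
    exact mul_inv_cancel x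
  obtain ⟨k, hk⟩ := hx
  have := pow_gcd_eq_one.2 ⟨h2, hk⟩
  rwa [Nat.Coprime.gcd_eq_one (((Nat.coprime_primes Nat.prime_two hpF.out).2 hp2.symm).pow_right k),
    pow_one] at this

/-- A `p`-group commuting with the involution `t` fixes a nontrivial element inverted by `t`. -/
theorem exists_inverted_fixed (hp2 : p ≠ 2) {P B : Subgroup G} {t : G} (hP : IsPGroup p P)
    (ht : t * t = 1) (htP : t ∈ Subgroup.normalizer (P : Set G)) (hB : IsPGroup p B)
    (hBt : B ≤ cz t) (hBP : B ≤ Subgroup.normalizer (P : Set G))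
    (hne : ∃ q ∈ P, ¬ Commute q t) :
    ∃ x ∈ P, x ^ p = 1 ∧ x ≠ 1 ∧ t * x * t⁻¹ = x⁻¹ ∧ x ∈ Subgroup.centralizer (B : Set G) := by
  classical
  have htinv : t⁻¹ = t := inv_eq_of_mul_eq_one_right ht
  let Ct : Subgroup P := (cz t).subgroupOf P
  let g : P → G := fun q => (q : G) * (t * (q : G)⁻¹ * t⁻¹)
  have hg : ∀ a b : P, g a = g b ↔ a⁻¹ * b ∈ Ct := by
    intro a b
    rw [Subgroup.mem_subgroupOf, mem_cz]
    show (a : G) * (t * (a : G)⁻¹ * t⁻¹) = (b : G) * (t * (b : G)⁻¹ * t⁻¹) ↔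
      (a : G)⁻¹ * (b : G) * t = t * ((a : G)⁻¹ * (b : G))
    constructor
    · intro h
      rw [← mul_assoc (a : G), ← mul_assoc (b : G), mul_left_inj, ← mul_assoc, ← mul_assoc] at h
      calc (a : G)⁻¹ * (b : G) * t = (a : G)⁻¹ * ((b : G) * t * (b : G)⁻¹) * (b : G) := by group
        _ = (a : G)⁻¹ * ((a : G) * t * (a : G)⁻¹) * (b : G) := by rw [h]
        _ = t * ((a : G)⁻¹ * (b : G)) := by group
    · intro h
      calc (a : G) * (t * (a : G)⁻¹ * t⁻¹)
          = (a : G) * (t * ((a : G)⁻¹ * (b : G))) * (b : G)⁻¹ * t⁻¹ := by group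
        _ = (a : G) * ((a : G)⁻¹ * (b : G) * t) * (b : G)⁻¹ * t⁻¹ := by rw [h]
        _ = _ := by group
  let J : Set G := Set.range g
  have hJc : Nat.card J = Ct.index := by
    let F : P ⧸ Ct → J := Quotient.lift (fun a => (⟨g a, a, rfl⟩ : J)) fun a b hab =>
      Subtype.ext ((hg a b).2 (QuotientGroup.leftRel_apply.1 hab))
    refine (Nat.card_congr (Equiv.ofBijective F ⟨?_, ?_⟩)).symm
    · intro u v huv
      induction u using QuotientGroup.induction_on with
      | H a =>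
        induction v using QuotientGroup.induction_on with
        | H b => exact QuotientGroup.eq.2 ((hg a b).1 (congrArg Subtype.val huv))
    · rintro ⟨_, a, rfl⟩
      exact ⟨(a : P ⧸ Ct), rfl⟩
  have hdvd : p ∣ Nat.card J := by
    rw [hJc]
    obtain ⟨n, hn⟩ := IsPGroup.index hP Ct
    rcases n with _ | n
    · exfalso
      rw [pow_zero, Subgroup.index_eq_one] at hn
      obtain ⟨q, hq, hqt⟩ := hne
      have h1 : (⟨q, hq⟩ : P) ∈ Ct := by rw [hn]; trivial
      exact hqt (mem_cz.1 (Subgroup.mem_subgroupOf.1 h1))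
    · rw [hn, pow_succ']; exact dvd_mul_right _ _
  have hmem : ∀ (b : B) (j : J), (b : G) * (j : G) * (b : G)⁻¹ ∈ J := by
    rintro b ⟨_, q, rfl⟩
    refine ⟨⟨(b : G) * (q : G) * (b : G)⁻¹, conj_mem (hBP b.2) q.2⟩, ?_⟩
    have hbt : (b : G) * t = t * (b : G) := (mem_cz.1 (hBt b.2)).eq
    have hbt' : (b : G) * t⁻¹ = t⁻¹ * (b : G) := (mem_cz.1 (hBt b.2)).inv_right.eq
    show (b : G) * (q : G) * (b : G)⁻¹ * (t * ((b : G) * (q : G) * (b : G)⁻¹)⁻¹ * t⁻¹) =
      (b : G) * ((q : G) * (t * (q : G)⁻¹ * t⁻¹)) * (b : G)⁻¹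
    calc (b : G) * (q : G) * (b : G)⁻¹ * (t * ((b : G) * (q : G) * (b : G)⁻¹)⁻¹ * t⁻¹)
        = (b : G) * (q : G) * (b : G)⁻¹ * ((t * (b : G)) * (q : G)⁻¹) * ((b : G)⁻¹ * t⁻¹) := by
          group
      _ = (b : G) * (q : G) * (b : G)⁻¹ * (((b : G) * t) * (q : G)⁻¹) *
            ((b : G)⁻¹ * (t⁻¹ * (b : G)) * (b : G)⁻¹) := by rw [hbt]; group
      _ = (b : G) * (q : G) * (b : G)⁻¹ * (((b : G) * t) * (q : G)⁻¹) *
            ((b : G)⁻¹ * ((b : G) * t⁻¹) * (b : G)⁻¹) := by rw [hbt']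
      _ = _ := by group
  letI act : MulAction B J :=
    { smul := fun b j => ⟨(b : G) * (j : G) * (b : G)⁻¹, hmem b j⟩
      one_smul := fun j => Subtype.ext (show ((1 : B) : G) * (j : G) * ((1 : B) : G)⁻¹ = j by simp)
      mul_smul := fun b c j => Subtype.ext
        (show ((b * c : B) : G) * (j : G) * ((b * c : B) : G)⁻¹ =
          (b : G) * ((c : G) * (j : G) * (c : G)⁻¹) * (b : G)⁻¹ by simp [mul_assoc]) }
  have h1J : (1 : G) ∈ J := ⟨1, by simp [g, mul_assoc]⟩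
  have h1fix : (⟨1, h1J⟩ : J) ∈ MulAction.fixedPoints B J := fun b =>
    Subtype.ext (show (b : G) * 1 * (b : G)⁻¹ = 1 by group)
  obtain ⟨⟨_, q, rfl⟩, hfix, hneq⟩ :=
    hB.exists_fixed_point_of_prime_dvd_card_of_fixed_point J hdvd h1fix
  set x0 := g q with hx0
  have hx0P : x0 ∈ P := mul_mem q.2 (conj_mem htP (inv_mem q.2))
  have hx0n : x0 ≠ 1 := fun h => hneq (Subtype.ext h.symm)
  have hx0i : t * x0 * t⁻¹ = x0⁻¹ := by
    show t * ((q : G) * (t * (q : G)⁻¹ * t⁻¹)) * t⁻¹ = ((q : G) * (t * (q : G)⁻¹ * t⁻¹))⁻¹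
    calc t * ((q : G) * (t * (q : G)⁻¹ * t⁻¹)) * t⁻¹
        = t * (q : G) * t * (q : G)⁻¹ * (t * t)⁻¹ := by group
      _ = t * (q : G) * t * (q : G)⁻¹ := by rw [ht]; group
      _ = t * (q : G) * t⁻¹ * (q : G)⁻¹ := by rw [htinv]
      _ = _ := by group
  obtain ⟨n, hn⟩ := hP ⟨x0, hx0P⟩
  have hn' : x0 ^ p ^ n = 1 := congrArg Subtype.val hn
  obtain ⟨m, hm⟩ := (Nat.dvd_prime_pow hpF.out).1 (orderOf_dvd_of_pow_eq_one hn')
  obtain ⟨m, rfl⟩ : ∃ k, m = k + 1 := ⟨m - 1, by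
    rcases m with _ | m
    · exact absurd (orderOf_eq_one_iff.1 (by simpa using hm.2)) hx0n
    · rfl⟩
  refine ⟨x0 ^ p ^ m, pow_mem hx0P _, ?_, ?_, inverted_pow hx0i _, pow_mem ?_ _⟩
  · rw [← pow_mul, ← pow_succ, ← hm.2, pow_orderOf_eq_one]
  · intro h
    have h2 := Nat.le_of_dvd (pow_pos hpF.out.pos m) (hm.2 ▸ orderOf_dvd_of_pow_eq_one h)
    rw [pow_succ] at h2
    nlinarith [hpF.out.two_le, pow_pos hpF.out.pos m]
  · rw [mem_centralizer_iff_commute]
    intro b hb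
    have := congrArg Subtype.val (hfix ⟨b, hb⟩)
    exact mul_inv_eq_iff_eq_mul.1 this

/-- Adjoining an element to an elementary abelian subgroup. -/
theorem card_sup_zpowers {T : Subgroup G} (hT : IsElementaryAbelian p T) {x : G} (hx : x ^ p = 1)
    (hxT : x ∈ Subgroup.centralizer (T : Set G)) (hn : x ∉ T) :
    IsElementaryAbelian p (T ⊔ Subgroup.zpowers x) ∧
      Nat.card (T ⊔ Subgroup.zpowers x : Subgroup G) = Nat.card T * p := by
  have hc : ∀ a ∈ T, ∀ b ∈ Subgroup.zpowers x, Commute a b := by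
    intro a ha b hb
    obtain ⟨n, rfl⟩ := Subgroup.mem_zpowers_iff.1 hb
    exact (mem_centralizer_iff_commute.1 hxT a ha).zpow_right n
  refine ⟨isElementaryAbelian_sup hT (isElementaryAbelian_zpowers hx)
    (fun a ha => Subgroup.mem_centralizer_iff.2 fun b hb => (hc a ha b hb).eq.symm), ?_⟩
  have ho : orderOf x = p := orderOf_eq_prime hx (fun h => hn (h ▸ one_mem T))
  let φ : T × Subgroup.zpowers x →* G :=
    T.subtype.noncommCoprod (Subgroup.zpowers x).subtype fun a b => hc a a.2 b b.2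
  have hinj : Function.Injective φ := by
    refine (injective_iff_map_eq_one φ).2 ?_
    rintro ⟨⟨a, ha⟩, ⟨b, hb⟩⟩ h
    have h' : a * b = 1 := h
    have hbT : b ∈ T := by rw [eq_inv_of_mul_eq_one_right h']; exact inv_mem ha
    have hb1 : b = 1 := by
      by_contra hb1
      haveI : Fact (Nat.card (Subgroup.zpowers x)).Prime := ⟨by rw [Nat.card_zpowers, ho]; exact hpF.out⟩
      rcases (T.subgroupOf (Subgroup.zpowers x)).eq_bot_or_eq_top_of_prime_card with h0 | h0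
      · have hmem : (⟨b, hb⟩ : Subgroup.zpowers x) ∈ T.subgroupOf (Subgroup.zpowers x) := hbT
        rw [h0, Subgroup.mem_bot] at hmem
        exact hb1 (congrArg Subtype.val hmem)
      · exact hn ((Subgroup.subgroupOf_eq_top.1 h0) (Subgroup.mem_zpowers x))
    subst hb1
    rw [mul_one] at h'
    subst h'
    rfl
  have hr : φ.range = T ⊔ Subgroup.zpowers x := by
    refine le_antisymm ?_ (sup_le (fun a ha => ⟨(⟨a, ha⟩, 1), ?_⟩) (fun b hb => ⟨(1, ⟨b, hb⟩), ?_⟩))
    · rintro _ ⟨⟨a, b⟩, rfl⟩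
      exact mul_mem (Subgroup.mem_sup_left a.2) (Subgroup.mem_sup_right b.2)
    · show a * 1 = a
      exact mul_one a
    · show 1 * b = b
      exact one_mul b
  rw [← hr, ← Nat.card_congr (φ.ofInjective hinj).toEquiv, Nat.card_prod, Nat.card_zpowers, ho]

theorem exists_mem_notMem_of_card {A B : Subgroup G} (h : Nat.card A < Nat.card B) :
    ∃ x ∈ B, x ∉ A := by
  by_contra hcon
  push Not at hcon
  exact absurd (Subgroup.card_le_of_le hcon) (not_le.2 h)

/-- `V` is closed for the action of `B` on `Q`. -/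
def IsClosedIn (B Q V : Subgroup G) : Prop :=
  ∀ b ∈ B, (∀ q ∈ Q, q ∈ Subgroup.centralizer (V : Set G) → Commute b q) → b ∈ V

theorem IsClosedIn.inf {B Q V W : Subgroup G} (hV : IsClosedIn B Q V) (hW : IsClosedIn B Q W) :
    IsClosedIn B Q (V ⊓ W) := fun b hb h =>
  ⟨hV b hb fun q hq hqV => h q hq (Subgroup.centralizer_le (SetLike.coe_subset_coe.2 inf_le_left) hqV),
    hW b hb fun q hq hqW => h q hq (Subgroup.centralizer_le (SetLike.coe_subset_coe.2 inf_le_right) hqW)⟩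

/-- Some hyperplane has a centraliser in `Q` not centralised by `V`. -/
theorem exists_hyperplane (hp2 : p ≠ 2) {B Q V : Subgroup G} (hB : IsElementaryAbelian p B)
    (hQ : IsPGroup 2 Q) (hBQ : B ≤ Subgroup.normalizer (Q : Set G)) (hVB : V ≤ B)
    (hne : ∃ v ∈ V, ∃ q ∈ Q, ¬ Commute v q) :
    ∃ H ≤ B, Nat.card H * p = Nat.card B ∧
      ∃ v ∈ V, ∃ q ∈ Q, q ∈ Subgroup.centralizer (H : Set G) ∧ ¬ Commute v q := by
  classical
  let S : Set (Subgroup G) := {W | W ≤ B ∧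
    ∃ v ∈ V, ∃ q ∈ Q, q ∈ Subgroup.centralizer (W : Set G) ∧ ¬ Commute v q}
  have hS : S.Nonempty := by
    obtain ⟨v, hv, q, hq, hvq⟩ := hne
    refine ⟨⊥, bot_le, v, hv, q, hq, ?_, hvq⟩
    rw [mem_centralizer_iff_commute]
    intro a ha
    rw [Subgroup.mem_bot.1 ha]
    exact Commute.one_left q
  obtain ⟨W, ⟨hWB, v, hv, q, hq, hqW, hvq⟩, hmax⟩ := (Set.toFinite S).exists_maximal hS
  refine ⟨W, hWB, ?_, v, hv, q, hq, hqW, hvq⟩
  have hWne : ¬ B ≤ W := fun h => hvq (mem_centralizer_iff_commute.1 hqW v (h (hVB hv)))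
  obtain ⟨x, hxB, hxW⟩ := Set.not_subset.1 hWne
  have hWel := isElementaryAbelian_mono hB hWB
  have hcB : ∀ a ∈ B, ∀ b ∈ B, Commute a b := fun a ha b hb =>
    congrArg Subtype.val (hB.1.is_comm.comm (⟨a, ha⟩ : B) ⟨b, hb⟩)
  obtain ⟨hW1, hW1c⟩ := card_sup_zpowers hWel (hB.2 x hxB)
    (mem_centralizer_iff_commute.2 fun a ha => hcB a (hWB ha) x hxB) hxW
  have hW1B : W ⊔ Subgroup.zpowers x ≤ B := sup_le hWB (Subgroup.zpowers_le.2 hxB)
  by_cases hlt : Nat.card (W ⊔ Subgroup.zpowers x : Subgroup G) < Nat.card B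
  swap
  · rw [← hW1c]
    exact le_antisymm (Subgroup.card_le_of_le hW1B) (not_lt.1 hlt)
  exfalso
  obtain ⟨y, hyB, hyW⟩ := exists_mem_notMem_of_card hlt
  have hxy : Commute x y := hcB x hxB y hyB
  let A : Subgroup G := Subgroup.zpowers x ⊔ Subgroup.zpowers y
  have hAB : A ≤ B := sup_le (Subgroup.zpowers_le.2 hxB) (Subgroup.zpowers_le.2 hyB)
  have hN : Subgroup.zpowers x ≤ Subgroup.normalizer (Subgroup.zpowers y : Set G) := by
    refine le_trans ?_ (Subgroup.centralizer_le_normalizer _)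
    rw [Subgroup.zpowers_le, mem_centralizer_iff_commute]
    intro a ha
    obtain ⟨n, rfl⟩ := Subgroup.mem_zpowers_iff.1 ha
    exact (hxy.symm).zpow_left n
  have hAW : ∀ a ∈ A, a ∈ W → a = 1 := by
    intro a ha haW
    have ha' : a ∈ ((Subgroup.zpowers x ⊔ Subgroup.zpowers y : Subgroup G) : Set G) := ha
    rw [Subgroup.coe_mul_of_left_le_normalizer_right _ _ hN] at ha'
    obtain ⟨_, ⟨m, rfl⟩, _, ⟨n, rfl⟩, rfl⟩ := ha'
    have haW : x ^ m * y ^ n ∈ W := haW
    show x ^ m * y ^ n = 1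
    have key : ∀ (U : Subgroup G) (z : G), z ^ p = 1 → z ∉ U → ∀ i : ℤ, z ^ i ∈ U → z ^ i = 1 := by
      intro U z hz hzU i hi
      by_contra hne
      have ho : orderOf z = p := orderOf_eq_prime hz fun h => hzU (h ▸ one_mem U)
      have hcop : IsCoprime (p : ℤ) i :=
        (Nat.prime_iff_prime_int.1 hpF.out).coprime_iff_not_dvd.2 fun hd =>
          hne (orderOf_dvd_iff_zpow_eq_one.1 (by rw [ho]; exact hd))
      obtain ⟨c, d, hcd⟩ := hcop
      apply hzU
      rw [show z = (z ^ (p : ℤ)) ^ c * (z ^ i) ^ d by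
        rw [← zpow_mul, ← zpow_mul, ← zpow_add, mul_comm _ c, mul_comm i d, hcd, zpow_one]]
      rw [zpow_natCast, hz, one_zpow, one_mul]
      exact zpow_mem hi d
    have hy1 : y ^ n ∈ W ⊔ Subgroup.zpowers x := by
      rw [show y ^ n = (x ^ m)⁻¹ * (x ^ m * y ^ n) by group]
      exact mul_mem (inv_mem (zpow_mem (Subgroup.mem_sup_right (Subgroup.mem_zpowers x)) m))
        (Subgroup.mem_sup_left haW)
    have hy2 : y ^ n = 1 := key _ y (hB.2 y hyB) hyW n hy1
    rw [hy2, mul_one] at haW ⊢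
    exact key _ x (hB.2 x hxB) hxW m haW
  have hAel := isElementaryAbelian_mono hB hAB
  haveI : IsMulCommutative A := hAel.1
  have hAcyc : ¬ IsCyclic A := by
    intro hcyc
    have h1 := card_sup_zpowers (isElementaryAbelian_zpowers (hB.2 x hxB)) (hB.2 y hyB)
      (mem_centralizer_iff_commute.2 fun a ha => by
        obtain ⟨n, rfl⟩ := Subgroup.mem_zpowers_iff.1 ha
        exact hxy.zpow_left n)
      (fun h => hyW (Subgroup.zpowers_le.2 (Subgroup.mem_sup_right (Subgroup.mem_zpowers x)) h))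
    have ho : orderOf x = p := orderOf_eq_prime (hB.2 x hxB) fun h => hxW (h ▸ one_mem W)
    obtain ⟨g, hg⟩ := IsCyclic.exists_ofOrder_eq_natCard (α := A)
    have h2 : orderOf g ≤ p := Nat.le_of_dvd hpF.out.pos
      (orderOf_dvd_of_pow_eq_one (Subtype.ext (hAel.2 _ g.2)))
    have h3 : Nat.card A = p * p := by rw [h1.2, Nat.card_zpowers, ho]
    rw [hg, h3] at h2
    nlinarith [hpF.out.two_le]
  have hK : A ≤ Subgroup.normalizer ((Q ⊓ Subgroup.centralizer (W : Set G) : Subgroup G) : Set G) := by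
    intro a ha
    refine mem_normalizer_inf (hBQ (hAB ha)) (mem_normalizer_centralizer_of_forall ?_)
    exact mem_centralizer_iff_commute.2 fun w hw => hcB w (hWB hw) a (hAB ha)
  have hcop : (Nat.card A).Coprime (Nat.card (Q ⊓ Subgroup.centralizer (W : Set G) : Subgroup G)) :=
    (card_coprime_of_isPGroup hp2 (IsPGroup.to_le hQ inf_le_left)
      (isPGroup_of_isElementaryAbelian hAel)).symm
  have hle : Q ⊓ Subgroup.centralizer (W : Set G) ≤ cz v := le_of_centralizers hAcyc hK hcop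
    fun a ha ha1 z hz => by
      obtain ⟨⟨hzQ, hzW⟩, hza⟩ := hz
      have hza : Commute z a := mem_cz.1 hza
      rw [mem_cz]
      by_contra hzv
      have hmem : W ⊔ Subgroup.zpowers a ∈ S := by
        refine ⟨sup_le hWB (Subgroup.zpowers_le.2 (hAB ha)), v, hv, z, hzQ, ?_, fun h => hzv h.symm⟩
        have : W ⊔ Subgroup.zpowers a ≤ cz z := by
          refine sup_le (fun w hw => mem_cz.2 (mem_centralizer_iff_commute.1 hzW w hw)) ?_
          rw [Subgroup.zpowers_le, mem_cz]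
          exact hza.symm
        exact mem_centralizer_iff_commute.2 fun w hw => mem_cz.1 (this hw)
      exact ha1 (hAW a ha (hmax hmem le_sup_left (Subgroup.mem_sup_right (Subgroup.mem_zpowers a))))
  exact hvq (mem_cz.1 (hle ⟨hq, hqW⟩)).symm

/-- A hyperplane whose centraliser is not centralised by `B` is closed. -/
theorem isClosedIn_hyperplane {B Q H : Subgroup G} (hB : IsElementaryAbelian p B)
    (hHB : H ≤ B) (hc : Nat.card H * p = Nat.card B)
    (hne : ∃ v ∈ B, ∃ q ∈ Q, q ∈ Subgroup.centralizer (H : Set G) ∧ ¬ Commute v q) :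
    IsClosedIn B Q H := by
  intro b hb hbq
  by_contra hbH
  obtain ⟨v, hv, q, hq, hqH, hvq⟩ := hne
  obtain ⟨-, hcard⟩ := card_sup_zpowers (isElementaryAbelian_mono hB hHB) (hB.2 b hb)
    (mem_centralizer_iff_commute.2 fun a ha =>
      congrArg Subtype.val (hB.1.is_comm.comm (⟨a, hHB ha⟩ : B) ⟨b, hb⟩)) hbH
  have heq : H ⊔ Subgroup.zpowers b = B :=
    Subgroup.eq_of_le_of_card_ge (sup_le hHB (Subgroup.zpowers_le.2 hb)) (by rw [hcard, hc])
  have hle : H ⊔ Subgroup.zpowers b ≤ cz q := sup_le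
    (fun w hw => mem_cz.2 (mem_centralizer_iff_commute.1 hqH w hw))
    (Subgroup.zpowers_le.2 (mem_cz.2 (hbq q hq hqH)))
  exact hvq (mem_cz.1 (hle (heq ▸ hv)))

/-- A nontrivial closed subgroup contains a closed subgroup of order `p`. -/
theorem exists_closed_point (hp2 : p ≠ 2) {B Q : Subgroup G} (hB : IsElementaryAbelian p B)
    (hQ : IsPGroup 2 Q) (hBQ : B ≤ Subgroup.normalizer (Q : Set G))
    (hfaith : ∀ b ∈ B, (∀ q ∈ Q, Commute b q) → b = 1) :
    ∀ (n : ℕ) (T : Subgroup G), Nat.card T ≤ n → T ≤ B → T ≠ ⊥ → IsClosedIn B Q T →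
      ∃ a ∈ T, a ≠ 1 ∧ IsClosedIn B Q (Subgroup.zpowers a) := by
  intro n
  induction n with
  | zero => exact fun T h => absurd h (by simpa using (Nat.card_pos (α := T)).ne')
  | succ n ih =>
    intro T hn hTB hT hcl
    obtain ⟨a, haT, ha⟩ := (T.bot_or_exists_ne_one).resolve_left hT
    by_cases hTa : T ≤ Subgroup.zpowers a
    · exact ⟨a, haT, ha, le_antisymm hTa (Subgroup.zpowers_le.2 haT) ▸ hcl⟩
    obtain ⟨H, hHB, hHc, v, hv, q, hq, hqH, hvq⟩ := exists_hyperplane hp2 hB hQ hBQ hTB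
      (by
        by_contra h
        push Not at h
        exact ha (hfaith a (hTB haT) (h a haT)))
    have hTH : ¬ T ≤ H := fun h => hvq (mem_centralizer_iff_commute.1 hqH v (h hv))
    have hlt : T ⊓ H < T := lt_of_le_of_ne inf_le_left fun h => hTH (inf_eq_left.1 h)
    have hne : T ⊓ H ≠ ⊥ := by
      intro h0
      obtain ⟨b, hbT, hba⟩ := Set.not_subset.1 hTa
      have hc : ∀ x ∈ B, ∀ y ∈ B, Commute x y := fun x hx y hy =>
        congrArg Subtype.val (hB.1.is_comm.comm (⟨x, hx⟩ : B) ⟨y, hy⟩)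
      have hHel := isElementaryAbelian_mono hB hHB
      have haH : a ∉ H := fun h => ha (by rw [← Subgroup.mem_bot, ← h0]; exact ⟨haT, h⟩)
      obtain ⟨he1, hc1⟩ := card_sup_zpowers hHel (hB.2 a (hTB haT))
        (mem_centralizer_iff_commute.2 fun x hx => hc x (hHB hx) a (hTB haT)) haH
      have hHa : H ⊔ Subgroup.zpowers a ≤ B := sup_le hHB (Subgroup.zpowers_le.2 (hTB haT))
      have hEq := Subgroup.eq_of_le_of_card_ge hHa (by rw [hc1, hHc])
      have hbB : b ∈ ((H ⊔ Subgroup.zpowers a : Subgroup G) : Set G) := by rw [hEq]; exact hTB hbT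
      rw [Subgroup.coe_mul_of_left_le_normalizer_right _ _ (le_trans
        (fun x hx => mem_centralizer_iff_commute.2 fun z hz =>
          hc z (hTB (Subgroup.zpowers_le.2 haT hz)) x (hHB hx))
        (Subgroup.centralizer_le_normalizer _))] at hbB
      obtain ⟨h', hh', z, hz, hbz⟩ := hbB
      have hh1 : h' ∈ T ⊓ H := ⟨by
        have : h' = b * z⁻¹ := by rw [← hbz]; group
        rw [this]
        exact mul_mem hbT (Subgroup.inv_mem _ (Subgroup.zpowers_le.2 haT hz)), hh'⟩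
      rw [h0, Subgroup.mem_bot] at hh1
      subst hh1
      apply hba
      rw [← hbz]
      simpa using hz
    obtain ⟨b, hb, hb1, hbc⟩ := ih (T ⊓ H)
      (Nat.lt_succ_iff.1 (lt_of_lt_of_le (lt_of_not_ge fun hge =>
        hlt.ne (Subgroup.eq_of_le_of_card_ge hlt.le hge)) hn))
      (inf_le_left.trans hTB) hne
      (hcl.inf (isClosedIn_hyperplane hB hHB hHc ⟨v, hTB hv, q, hq, hqH, hvq⟩))
    exact ⟨b, hb.1, hb1, hbc⟩

/-- An inverted central-modulo-centre element of order `p`. -/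
theorem exists_inverted_second_centre (hp2 : p ≠ 2) {K N : Subgroup G} {t : G} {S : Set G}
    (hK : IsPGroup p K) (hS : K = Subgroup.closure S) (hSinv : ∀ w ∈ S, t * w * t⁻¹ = w⁻¹)
    (ht : t * t = 1) (hNK : N ≤ K) (hNn : ∀ k ∈ K, ∀ x ∈ N, k * x * k⁻¹ ∈ N)
    (htN : ∀ x ∈ N, t * x * t⁻¹ ∈ N) (hne : ∃ n ∈ N, n ≠ 1 ∧ t * n * t⁻¹ = n⁻¹) :
    ∃ x ∈ N, x ≠ 1 ∧ x ^ p = 1 ∧ t * x * t⁻¹ = x⁻¹ ∧
      ∀ k ∈ K, ∀ k' ∈ K, Commute (x * k * x⁻¹ * k⁻¹) k' := by
  have hord : ∀ z ∈ K, ∃ j, z ^ p ^ j = 1 := fun z hz => by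
    obtain ⟨j, hj⟩ := hK ⟨z, hz⟩
    exact ⟨j, congrArg Subtype.val hj⟩
  suffices ∃ x ∈ N, x ≠ 1 ∧ t * x * t⁻¹ = x⁻¹ ∧
      ∀ k ∈ K, ∀ k' ∈ K, Commute (x * k * x⁻¹ * k⁻¹) k' by
    obtain ⟨x, hx, hx1, hxt, hxc⟩ := this
    obtain ⟨n, hn⟩ := hord x (hNK hx)
    obtain ⟨m, -, hm⟩ := (Nat.dvd_prime_pow hpF.out).1 (orderOf_dvd_of_pow_eq_one hn)
    rcases m with _ | m
    · exact absurd (orderOf_eq_one_iff.1 (by simpa using hm)) hx1
    refine ⟨x ^ p ^ m, pow_mem hx _, ?_, ?_, inverted_pow hxt _, ?_⟩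
    · intro h
      have h2 := Nat.le_of_dvd (pow_pos hpF.out.pos m) (hm ▸ orderOf_dvd_of_pow_eq_one h)
      rw [pow_succ] at h2
      nlinarith [hpF.out.two_le, pow_pos hpF.out.pos m]
    · rw [← pow_mul, ← pow_succ, ← hm, pow_orderOf_eq_one]
    · have key : ∀ j : ℕ, ∀ k ∈ K, ∀ k' ∈ K, Commute (x ^ j * k * (x ^ j)⁻¹ * k⁻¹) k' := by
        intro j
        induction j with
        | zero => intro k _ k' _; simp
        | succ j ih =>
          intro k hk k' hk'
          have hc := (hxc k hk x (hNK hx)).eq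
          have e : x ^ (j + 1) * k * (x ^ (j + 1))⁻¹ * k⁻¹ =
              (x * (x ^ j * k * (x ^ j)⁻¹ * k⁻¹) * x⁻¹) * (x * k * x⁻¹ * k⁻¹) := by
            rw [pow_succ']; group
          have e2 : x * (x ^ j * k * (x ^ j)⁻¹ * k⁻¹) * x⁻¹ = x ^ j * k * (x ^ j)⁻¹ * k⁻¹ := by
            rw [← (ih k hk x (hNK hx)).eq, mul_inv_cancel_right]
          rw [e, e2]
          exact (ih k hk k' hk').mul_left (hxc k hk k' hk')
      exact key _
  let L : Subgroup G := K ⊓ Subgroup.centralizer (K : Set G)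
  have hLc : ∀ z ∈ L, ∀ k ∈ K, Commute z k := fun z hz k hk =>
    (mem_centralizer_iff_commute.1 hz.2 k hk).symm
  have htt : ∀ g : G, t * (t * g * t⁻¹) * t⁻¹ = g := fun g => by
    calc t * (t * g * t⁻¹) * t⁻¹ = (t * t) * g * (t * t)⁻¹ := by group
      _ = g := by rw [ht]; group
  have hKt : ∀ k ∈ K, t * k * t⁻¹ ∈ K := by
    intro k hk
    have hle : Subgroup.closure S ≤ K.comap (MulAut.conj t).toMonoidHom := by
      rw [Subgroup.closure_le]
      intro w hw
      show t * w * t⁻¹ ∈ K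
      rw [hSinv w hw]
      exact inv_mem (hS ▸ Subgroup.subset_closure hw)
    exact hle (hS ▸ hk)
  have hLt : ∀ l ∈ L, t * l * t⁻¹ ∈ L := fun l hl =>
    ⟨hKt l hl.1, mem_centralizer_iff_commute.2 fun k hk => by
      have h := commute_conj t (hLc l hl _ (hKt k hk))
      rw [htt k] at h
      exact h.symm⟩
  by_cases hfix : ∀ z ∈ N, z ∈ L → Commute z t
  swap
  · push Not at hfix
    obtain ⟨z, hzN, hzL, hzt⟩ := hfix
    refine ⟨z⁻¹ * (t * z * t⁻¹), mul_mem (inv_mem hzN) (htN z hzN), ?_, ?_, ?_⟩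
    · intro h
      rw [inv_mul_eq_one, eq_mul_inv_iff_mul_eq] at h
      exact hzt h
    · calc t * (z⁻¹ * (t * z * t⁻¹)) * t⁻¹
          = (t * z * t⁻¹)⁻¹ * (t * (t * z * t⁻¹) * t⁻¹) := by group
        _ = _ := by rw [htt z]; group
    · intro k hk k' hk'
      have hm : z⁻¹ * (t * z * t⁻¹) ∈ L := mul_mem (inv_mem hzL) (hLt z hzL)
      set m := z⁻¹ * (t * z * t⁻¹) with hmdef
      have e : m * k * m⁻¹ * k⁻¹ = 1 := by rw [(hLc _ hm k hk).eq]; group
      rw [e]
      exact Commute.one_left _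
  obtain ⟨n, hn, hn1, hnt⟩ := hne
  have hnL : n ∉ L := fun h =>
    hn1 (eq_one_of_inverted hp2 hnt (hfix n hn h) (hord n (hNK hn)))
  have hnil : Group.IsNilpotent K := hK.isNilpotent
  have hex : ∃ i, ∃ z : K, (z : G) ∈ N ∧ (z : G) ∉ L ∧ z ∈ Subgroup.upperCentralSeries K i := by
    obtain ⟨c, hc⟩ := hnil.nilpotent'
    exact ⟨c, ⟨n, hNK hn⟩, hn, hnL, hc ▸ Subgroup.mem_top _⟩
  classical
  obtain ⟨z, hzN, hzL, hzi⟩ := Nat.find_spec hex
  have hi0 : Nat.find hex ≠ 0 := fun h => hzL (by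
    rw [h, Subgroup.upperCentralSeries_zero, Subgroup.mem_bot] at hzi
    rw [hzi]; exact one_mem L)
  obtain ⟨i, hi⟩ : ∃ i, Nat.find hex = i + 1 := ⟨_, (Nat.succ_pred_eq_of_ne_zero hi0).symm⟩
  rw [hi, Subgroup.mem_upperCentralSeries_succ_iff] at hzi
  have hcomm : ∀ k ∈ K, (z : G) * k * (z : G)⁻¹ * k⁻¹ ∈ N ⊓ L := by
    intro k hk
    have h1 : (z : G) * k * (z : G)⁻¹ * k⁻¹ ∈ N := by
      rw [show (z : G) * k * (z : G)⁻¹ * k⁻¹ = (z : G) * (k * (z : G)⁻¹ * k⁻¹) by group]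
      exact mul_mem hzN (hNn k hk _ (inv_mem hzN))
    refine ⟨h1, ?_⟩
    by_contra hL
    exact Nat.find_min hex (show i < Nat.find hex by omega)
      ⟨_, h1, hL, hzi ⟨k, hk⟩⟩
  set x1 := (z : G)⁻¹ * (t * z * t⁻¹) with hx1
  by_cases hx11 : x1 = 1
  · exfalso
    have hzt : t * (z : G) * t⁻¹ = z := (inv_mul_eq_one.1 hx11).symm
    apply hzL
    refine ⟨z.2, mem_centralizer_iff_commute.2 ?_⟩
    have hle : Subgroup.closure S ≤ cz (z : G) := by
      rw [Subgroup.closure_le]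
      intro w hw
      have hwK : w ∈ K := hS ▸ Subgroup.subset_closure hw
      set c := (z : G) * w * (z : G)⁻¹ * w⁻¹ with hc
      obtain ⟨hcN, hcL⟩ := hcomm w hwK
      have h1 : t * c * t⁻¹ = c := mul_inv_eq_iff_eq_mul.2 (hfix c hcN hcL).symm.eq
      have h2 : t * c * t⁻¹ = c⁻¹ := by
        have e : t * c * t⁻¹ = (t * z * t⁻¹) * (t * w * t⁻¹) * (t * z * t⁻¹)⁻¹ * (t * w * t⁻¹)⁻¹ := by
          rw [hc]; group
        rw [e, hzt, hSinv w hw]
        have e2 : (z : G) * w⁻¹ * (z : G)⁻¹ * w⁻¹⁻¹ = w⁻¹ * c⁻¹ * w := by rw [hc]; group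
        rw [e2]
        rw [show w⁻¹ * c⁻¹ * w = w⁻¹ * (c⁻¹ * w) by group, ((hLc c hcL w hwK).inv_left).eq]
        group
      have hc1 : c = 1 := eq_one_of_inverted hp2 h2 (hfix c hcN hcL) (hord c hcL.1)
      rw [hc, mul_inv_eq_one, mul_inv_eq_iff_eq_mul] at hc1
      exact mem_cz.2 hc1.symm
    intro k hk
    exact mem_cz.1 (hle (hS ▸ hk))
  refine ⟨x1, mul_mem (inv_mem hzN) (htN _ hzN), hx11, ?_, ?_⟩
  · calc t * x1 * t⁻¹ = (t * (z : G)⁻¹ * t⁻¹) * (t * t * (z : G) * (t * t)⁻¹) := by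
          rw [hx1]; group
      _ = x1⁻¹ := by rw [ht, hx1]; group
  · intro k hk k' hk'
    -- commutators of `z`, of its inverse and of its conjugate lie in `L`
    have hzinv : ∀ k ∈ K, (z : G)⁻¹ * k * (z : G) * k⁻¹ ∈ L := by
      intro k hk
      obtain ⟨-, hL⟩ := hcomm k hk
      have hcz := hLc _ hL z z.2
      have e : (z : G)⁻¹ * k * (z : G) * k⁻¹ = (((z : G) * k * (z : G)⁻¹ * k⁻¹))⁻¹ := by
        calc (z : G)⁻¹ * k * (z : G) * k⁻¹
            = (z : G)⁻¹ * ((z : G) * k * (z : G)⁻¹ * k⁻¹)⁻¹ * (z : G) := by group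
          _ = (z : G)⁻¹ * (((z : G) * k * (z : G)⁻¹ * k⁻¹)⁻¹ * (z : G)) := by group
          _ = _ := by rw [hcz.inv_left.eq]; group
      rw [e]
      exact inv_mem hL
    set s := t * (z : G) * t⁻¹ with hs
    have hsN : s ∈ N := htN _ hzN
    have hsk : s * k * s⁻¹ * k⁻¹ ∈ L := by
      have h := hLt _ (hcomm _ (hKt k hk)).2
      have e : t * ((z : G) * (t * k * t⁻¹) * (z : G)⁻¹ * (t * k * t⁻¹)⁻¹) * t⁻¹ =
          s * (t * (t * k * t⁻¹) * t⁻¹) * s⁻¹ * (t * (t * k * t⁻¹) * t⁻¹)⁻¹ := by rw [hs]; group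
      rwa [e, htt k] at h
    have hmem : x1 * k * x1⁻¹ * k⁻¹ ∈ L := by
      set c := s * k * s⁻¹ * k⁻¹ with hc
      have e : x1 * k * x1⁻¹ * k⁻¹ = ((z : G)⁻¹ * c * (z : G)) * ((z : G)⁻¹ * k * (z : G) * k⁻¹) := by
        rw [hx1, hc]; group
      rw [e, show (z : G)⁻¹ * c * (z : G) = (z : G)⁻¹ * (c * (z : G)) by group,
        (hLc c hsk z z.2).eq, inv_mul_cancel_left]
      exact mul_mem hsk (hzinv k hk)
    exact hLc _ hmem k' hk'

end CfsgLib.Quasithin.Klinger
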