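import Cfsg.Agent.Lib.Quasithin.KlingerMain

/-!
Klinger and Mason: the last configuration, and the theorem.
-/

set_option autoImplicit false

namespace CfsgLib.Quasithin.Klinger

open Cfsg CfsgLib.Cores CfsgLib.CoprimeAction CfsgLib.ThompsonJ

universe u

variable {G : Type u} [Group G] [Finite G] {p : ℕ} [hpF : Fact p.Prime] {k : ℕ}

/-- An element of `Z₂` outside `⟨t⟩`. -/
theorem exists_second_centre {Q : Subgroup G} (hQ : IsPGroup 2 Q) {t : G}
    (hQt : ∀ q ∈ Q, Commute q t) (hne : ¬ Q ≤ Subgroup.zpowers t) :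
    ∃ q ∈ Q, q ∉ Subgroup.zpowers t ∧ ∀ r ∈ Q, q * r * q⁻¹ * r⁻¹ ∈ Subgroup.zpowers t := by
  classical
  haveI : Fact (Nat.Prime 2) := ⟨Nat.prime_two⟩
  haveI hnil : Group.IsNilpotent Q := hQ.isNilpotent
  obtain ⟨n, hnQ, hnt⟩ := Set.not_subset.1 hne
  have hex : ∃ i, ∃ z : Q, (z : G) ∉ Subgroup.zpowers t ∧ z ∈ Subgroup.upperCentralSeries Q i := by
    obtain ⟨c, hc⟩ := hnil.nilpotent'
    exact ⟨c, ⟨n, hnQ⟩, hnt, hc ▸ Subgroup.mem_top _⟩
  obtain ⟨z, hz, hzi⟩ := Nat.find_spec hex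
  obtain ⟨i, hi⟩ : ∃ i, Nat.find hex = i + 1 := by
    refine ⟨_, (Nat.succ_pred_eq_of_ne_zero fun h => hz ?_).symm⟩
    rw [h, Subgroup.upperCentralSeries_zero, Subgroup.mem_bot] at hzi
    rw [hzi]
    exact one_mem _
  rw [hi, Subgroup.mem_upperCentralSeries_succ_iff] at hzi
  refine ⟨z, z.2, hz, fun r hr => ?_⟩
  by_contra hc
  exact Nat.find_min hex (show i < Nat.find hex by omega) ⟨_, hc, hzi ⟨r, hr⟩⟩

namespace Hyp

variable (h : Hyp p k G)
include h

/-- No elementary abelian subgroup of rank `k` centralises an involution. -/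
theorem no_centralised {B : Subgroup G} (hB : IsElementaryAbelian p B) (hc : Nat.card B = p ^ k)
    {t : G} (ht : t * t = 1) (ht1 : t ≠ 1) (htB : t ∈ Subgroup.centralizer (B : Set G)) : False := by
  haveI : Fact (Nat.Prime 2) := ⟨Nat.prime_two⟩
  set U := Subgroup.zpowers t with hU
  set Q := normCore 2 U with hQ
  have hUp : IsPGroup 2 U := IsPGroup.of_card (n := 1)
    (by rw [hU, Nat.card_zpowers, pow_one]; exact orderOf_eq_prime (by rw [pow_two, ht]) ht1)
  have hU1 : U ≠ ⊥ := fun hb => ht1 (by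
    have := Subgroup.mem_zpowers t
    rwa [← hU, hb, Subgroup.mem_bot] at this)
  have hBt : ∀ b ∈ B, Commute b t := mem_centralizer_iff_commute.1 htB
  have hBU : B ≤ Subgroup.normalizer (U : Set G) := fun b hb =>
    Subgroup.centralizer_le_normalizer _ (mem_centralizer_zpowers.2 (hBt b hb))
  have hQp : IsPGroup 2 Q := isPGroup_normCore 2 U
  have hBQ : B ≤ Subgroup.normalizer (Q : Set G) := hBU.trans (le_normalizer_normCore 2 U)
  have hfaith : ∀ b ∈ B, (∀ q ∈ Q, Commute b q) → b = 1 := fun b hb hbq =>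
    h.faithful_two hUp hU1 (hB.2 b hb) (hBU hb) hbq
  have htQ : t ∈ Q := le_map_pCore Subgroup.le_normalizer hUp
    (fun g hg x hx => conj_mem hg hx) (Subgroup.mem_zpowers t)
  have hQt : ∀ q ∈ Q, Commute q t := fun q hq => commute_of_normalizes ht ht1 (normCore_le 2 U hq)
  have hcB : ∀ x ∈ B, ∀ w ∈ B, Commute x w := fun x hx w hw =>
    congrArg Subtype.val (hB.1.is_comm.comm (⟨x, hx⟩ : B) ⟨w, hw⟩)
  obtain ⟨b0, hb0, hb01⟩ := h.exists_ne_one_of_card (by have := h.hk; omega) hc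
  have hmoves : ∃ v ∈ B, ∃ q ∈ Q, ¬ Commute v q := by
    by_contra hh
    push Not at hh
    exact hb01 (hfaith b0 hb0 (hh b0 hb0))
  -- the second centre of `Q` gives the first hyperplane
  have hQne : ¬ Q ≤ U := by
    intro hle
    obtain ⟨v, hv, q, hq, hvq⟩ := hmoves
    exact hvq (mem_centralizer_zpowers.2 (hBt v hv) |> fun hh =>
      (mem_centralizer_iff_commute.1 hh q (hle hq)).symm)
  obtain ⟨z, hzQ, hzU, hzc⟩ := exists_second_centre hQp hQt hQne
  have htc : ∀ c ∈ U, ∀ q ∈ Q, Commute q c := fun c hc q hq => by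
    obtain ⟨n, rfl⟩ := Subgroup.mem_zpowers_iff.1 hc
    exact (hQt q hq).zpow_right n
  let W : Subgroup G :=
    { carrier := {q | q ∈ Q ∧ ∀ r ∈ Q, q * r * q⁻¹ * r⁻¹ ∈ U}
      one_mem' := ⟨one_mem _, fun r _ => by simp⟩
      mul_mem' := fun {a b} ha hb => ⟨mul_mem ha.1 hb.1, fun r hr => by
        have e : a * b * r * (a * b)⁻¹ * r⁻¹ = a * (b * r * b⁻¹ * r⁻¹) * a⁻¹ * (a * r * a⁻¹ * r⁻¹) := by
          group
        rw [e, (htc _ (hb.2 r hr) a ha.1).eq, mul_inv_cancel_right]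
        exact mul_mem (hb.2 r hr) (ha.2 r hr)⟩
      inv_mem' := fun {a} ha => ⟨inv_mem ha.1, fun r hr => by
        have e : a⁻¹ * r * a⁻¹⁻¹ * r⁻¹ = a⁻¹ * (a * r * a⁻¹ * r⁻¹)⁻¹ * a := by group
        rw [e, (htc _ (inv_mem (ha.2 r hr)) a⁻¹ (inv_mem ha.1)).eq, inv_mul_cancel_right]
        exact inv_mem (ha.2 r hr)⟩ }
  have hWQ : W ≤ Q := fun q hq => hq.1
  have hBW : B ≤ Subgroup.normalizer (W : Set G) := fun b hb => by
    refine mem_normalizer_of_conj_mem fun q hq => ⟨conj_mem (hBQ hb) hq.1, fun r hr => ?_⟩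
    have hr' : b⁻¹ * r * b ∈ Q := by
      have := conj_mem (hBQ (inv_mem hb)) hr
      rwa [inv_inv] at this
    obtain ⟨n, hn⟩ := Subgroup.mem_zpowers_iff.1 (hq.2 _ hr')
    refine Subgroup.mem_zpowers_iff.2 ⟨n, ?_⟩
    calc t ^ n = b * t ^ n * b⁻¹ := by rw [((hBt b hb).zpow_right n).eq, mul_inv_cancel_right]
      _ = _ := by rw [hn]; group
  have hWmove : ∃ v ∈ B, ∃ q ∈ W, ¬ Commute v q := by
    by_contra hh
    push Not at hh
    obtain ⟨H, hHB, hHc, hne⟩ := exists_hyperplane h.hp2 hB hQp hBQ le_rfl hmoves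
    obtain ⟨y, hyB, hyH⟩ : ∃ y ∈ B, y ∉ H := exists_mem_notMem_of_card (by
      rw [← hHc]
      have := (h.bot_lt_card hc hHc).1
      nlinarith [hpF.out.two_le])
    have hzH : z ∈ Subgroup.centralizer (H : Set G) :=
      mem_centralizer_iff_commute.2 fun x hx => hh x (hHB hx) z ⟨hzQ, hzc⟩
    rcases (h.special hB hc ht ht1 htB hHB hHc hne).2 y hyB hyH z hzQ hzH (hh y hyB z ⟨hzQ, hzc⟩) with
      h1 | h1
    · exact hzU (h1 ▸ one_mem _)
    · exact hzU (h1 ▸ Subgroup.mem_zpowers t)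
  obtain ⟨H1, hH1B, hH1c, v1, hv1, i, hiW, hiH1, hv1i⟩ :=
    exists_hyperplane h.hp2 hB (IsPGroup.to_le hQp hWQ) hBW le_rfl hWmove
  have hne1 : ∃ v ∈ B, ∃ q ∈ Q, q ∈ Subgroup.centralizer (H1 : Set G) ∧ ¬ Commute v q :=
    ⟨v1, hv1, i, hiW.1, hiH1, hv1i⟩
  have hH1move : ∃ v ∈ H1, ∃ q ∈ Q, ¬ Commute v q := by
    by_contra hh
    push Not at hh
    have hb := (h.bot_lt_card hc hH1c).2
    obtain ⟨a, ha, ha1⟩ := (H1.bot_or_exists_ne_one).resolve_left hb
    exact ha1 (hfaith a (hH1B ha) (hh a ha))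
  obtain ⟨H2, hH2B, hH2c, v2, hv2, r, hr, hrH2, hv2r⟩ :=
    exists_hyperplane h.hp2 hB hQp hBQ hH1B hH1move
  have hne2 : ∃ v ∈ B, ∃ q ∈ Q, q ∈ Subgroup.centralizer (H2 : Set G) ∧ ¬ Commute v q :=
    ⟨v2, hH1B hv2, r, hr, hrH2, hv2r⟩
  obtain ⟨hR1, hfix1⟩ := h.special hB hc ht ht1 htB hH1B hH1c hne1
  obtain ⟨hR2, hfix2⟩ := h.special hB hc ht ht1 htB hH2B hH2c hne2
  set R1 := Q ⊓ Subgroup.centralizer (H1 : Set G) with hR1d
  set R2 := Q ⊓ Subgroup.centralizer (H2 : Set G) with hR2d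
  have hH12 : H1 ≠ H2 := by
    intro hh
    exact hv2r (mem_centralizer_iff_commute.1 hrH2 v2 (hh ▸ hv2))
  have hcard12 : Nat.card H1 = Nat.card H2 :=
    Nat.eq_of_mul_eq_mul_right hpF.out.pos (hH1c.trans hH2c.symm)
  obtain ⟨h1, hh1, hh1'⟩ := exists_notMem_two hH1B hH2B hH12 hcard12
  obtain ⟨h2, hh2, hh2'⟩ := exists_notMem_two hH2B hH1B (Ne.symm hH12) hcard12.symm
  set y := h1 * h2 with hy
  have hyB : y ∈ B := mul_mem (hH1B hh1) (hH2B hh2)
  have hyp : y ^ p = 1 := hB.2 y hyB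
  have hy1 : y ∉ H1 := fun hh => hh2' (by
    rw [show h2 = h1⁻¹ * y by rw [hy]; group]
    exact mul_mem (inv_mem hh1) hh)
  have hy2 : y ∉ H2 := fun hh => hh1' (by
    rw [show h1 = y * h2⁻¹ by rw [hy]; group]
    exact mul_mem hh (inv_mem hh2))
  have hyR : ∀ H ≤ B, y ∈ Subgroup.normalizer ((Q ⊓ Subgroup.centralizer (H : Set G) : Subgroup G) : Set G) :=
    fun H hH => mem_normalizer_inf (hBQ hyB)
      (mem_normalizer_centralizer_of_forall (mem_centralizer_iff_commute.2 fun x hx => hcB x (hH hx) y hyB))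
  have hiR : i ∈ R1 := ⟨hiW.1, hiH1⟩
  have hrR : r ∈ R2 := ⟨hr, hrH2⟩
  have hB1 : ∀ v ∈ B, Commute v 1 := fun v _ => Commute.one_right v
  have hi1 : i ≠ 1 ∧ i ≠ t := ⟨fun hh => hv1i (hh ▸ hB1 v1 hv1), fun hh => hv1i (hh ▸ hBt v1 hv1)⟩
  have hr1 : r ≠ 1 ∧ r ≠ t :=
    ⟨fun hh => hv2r (hh ▸ hB1 v2 (hH1B hv2)), fun hh => hv2r (hh ▸ hBt v2 (hH1B hv2))⟩
  have sqt : ∀ (R : Subgroup G), QEight R t → ∀ a ∈ R, a ≠ 1 → a ≠ t → a * a = t := by
    intro R hR a ha h1 h2
    rcases hR.cases a ha with e | e | e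
    · exact absurd e h1
    · exact absurd e h2
    · exact e
  have hyt : y * t * y⁻¹ = t := by rw [(hBt y hyB).eq, mul_inv_cancel_right]
  -- the orbit data in a quaternion group
  have orbit : ∀ (H : Subgroup G) (hH : H ≤ B), QEight (Q ⊓ Subgroup.centralizer (H : Set G)) t →
      (∀ x ∈ B, x ∉ H → ∀ a ∈ Q, a ∈ Subgroup.centralizer (H : Set G) → Commute x a → a = 1 ∨ a = t) →
      y ∉ H → ∀ a ∈ Q ⊓ Subgroup.centralizer (H : Set G), a ≠ 1 → a ≠ t →
      let b := y * a * y⁻¹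
      let c := y * b * y⁻¹
      b ∈ Q ⊓ Subgroup.centralizer (H : Set G) ∧ c ∈ Q ⊓ Subgroup.centralizer (H : Set G) ∧
        a * a = t ∧ b * b = t ∧ c * c = t ∧ a * b = t * (b * a) ∧ b * c = t * (c * b) ∧
        a * c = t * (c * a) ∧ b ≠ a ∧ b ≠ a⁻¹ ∧ (a * b * c = 1 ∨ a * b * c = t) := by
    intro H hH hQE hfx hyH a ha ha1 hat b c
    have hb : b ∈ Q ⊓ Subgroup.centralizer (H : Set G) := conj_mem (hyR H hH) ha
    have hcm : c ∈ Q ⊓ Subgroup.centralizer (H : Set G) := conj_mem (hyR H hH) hb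
    have hsa := sqt _ hQE a ha ha1 hat
    have hsb : b * b = t := by
      show y * a * y⁻¹ * (y * a * y⁻¹) = t
      rw [show y * a * y⁻¹ * (y * a * y⁻¹) = y * (a * a) * y⁻¹ by group, hsa, hyt]
    have hsc : c * c = t := by
      show y * b * y⁻¹ * (y * b * y⁻¹) = t
      rw [show y * b * y⁻¹ * (y * b * y⁻¹) = y * (b * b) * y⁻¹ by group, hsb, hyt]
    have hnf : ∀ m : ℕ, m.Coprime p → y ^ m * a * (y ^ m)⁻¹ ≠ a := fun m hm hh => by
      rcases hfx y hyB hyH a ha.1 ha.2
        (commute_of_pow hyp hm (mul_inv_eq_iff_eq_mul.1 hh)) with e | e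
      · exact ha1 e
      · exact hat e
    have hba : b ≠ a := fun hh => hnf 1 (Nat.coprime_one_left p) (by rwa [pow_one])
    have hbai : b ≠ a⁻¹ := fun hh => hnf 2 (two_coprime h.hp2) (by
      rw [pow_two]
      calc y * y * a * (y * y)⁻¹ = y * b * y⁻¹ := by simp only [b]; group
        _ = (y * a * y⁻¹)⁻¹ := by rw [hh]; group
        _ = a := by rw [show y * a * y⁻¹ = a⁻¹ from hh, inv_inv])
    have hcb : c ≠ b := fun hh => hba (mul_left_cancel (mul_right_cancel hh))
    have hcbi : c ≠ b⁻¹ := fun hh => hbai (by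
      have e : y * b * y⁻¹ = y * a⁻¹ * y⁻¹ := by rw [show y * b * y⁻¹ = b⁻¹ from hh]; simp only [b]; group
      exact mul_left_cancel (mul_right_cancel e))
    have hca : c ≠ a := fun hh => hnf 2 (two_coprime h.hp2) (by
      rw [pow_two]
      calc y * y * a * (y * y)⁻¹ = c := by simp only [b, c]; group
        _ = a := hh)
    have hcai : c ≠ a⁻¹ := fun hh => hnf 4 (four_coprime h.hp2) (by
      have e4 : y ^ 4 = y * y * (y * y) := by rw [← pow_two, ← pow_two, ← pow_mul]
      calc y ^ 4 * a * (y ^ 4)⁻¹ = y * (y * c * y⁻¹) * y⁻¹ := by rw [e4]; simp only [b, c]; group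
        _ = (y * (y * a * y⁻¹) * y⁻¹)⁻¹ := by rw [hh]; simp only [mul_inv_rev, inv_inv, mul_assoc]
        _ = a := by rw [show y * (y * a * y⁻¹) * y⁻¹ = a⁻¹ from hh, inv_inv])
    exact ⟨hb, hcm, hsa, hsb, hsc, hQE.anti a ha b hb hsa hsb hba hbai,
      hQE.anti b hb c hcm hsb hsc hcb hcbi, hQE.anti a ha c hcm hsa hsc hca hcai, hba, hbai,
      hQE.triple a ha b hb c hcm hsa hsb hsc hba hbai hcb hcbi hca hcai⟩
  obtain ⟨hjR, hkR, hi2, hj2, hk2, hij, hjk, hik, hji, hjii, hijk⟩ :=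
    orbit H1 hH1B hR1 hfix1 hy1 i hiR hi1.1 hi1.2
  obtain ⟨hsR, hqR, hr2, hs2, hq2, hrs, hsq, hrq, hsr, hsri, hrsq⟩ :=
    orbit H2 hH2B hR2 hfix2 hy2 r hrR hr1.1 hr1.2
  set j := y * i * y⁻¹ with hj
  set kk := y * j * y⁻¹ with hkk
  set s := y * r * y⁻¹ with hs
  set q := y * s * y⁻¹ with hq
  have hjW : j ∈ W := conj_mem (hBW hyB) hiW
  have hkW : kk ∈ W := conj_mem (hBW hyB) hjW
  -- the two quaternion groups commute
  have hjeq : h2 * i * h2⁻¹ = j := by
    have hc1 : Commute h1 (h2 * i * h2⁻¹) := by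
      have := commute_conj h2 (mem_centralizer_iff_commute.1 hiH1 h1 hh1)
      rwa [(hcB h2 (hH2B hh2) h1 (hH1B hh1)).eq, mul_inv_cancel_right] at this
    rw [hj, hy]
    calc h2 * i * h2⁻¹ = h1 * (h2 * i * h2⁻¹) * h1⁻¹ := by rw [hc1.eq, mul_inv_cancel_right]
      _ = _ := by group
  have hkeq : h2 * j * h2⁻¹ = kk := by
    have hc1 : Commute h1 (h2 * j * h2⁻¹) := by
      have := commute_conj h2 (mem_centralizer_iff_commute.1 hjR.2 h1 hh1)
      rwa [(hcB h2 (hH2B hh2) h1 (hH1B hh1)).eq, mul_inv_cancel_right] at this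
    rw [hkk, hy]
    calc h2 * j * h2⁻¹ = h1 * (h2 * j * h2⁻¹) * h1⁻¹ := by rw [hc1.eq, mul_inv_cancel_right]
      _ = _ := by group
  have hcomm : ∀ b ∈ R2, Commute i b ∧ Commute j b ∧ Commute kk b := by
    intro b hb
    have hUel : ∀ c ∈ U, c = 1 ∨ c = t := by
      intro c hc
      obtain ⟨n, rfl⟩ := Subgroup.mem_zpowers_iff.1 hc
      have h2' : t ^ (2 : ℤ) = 1 := by rw [zpow_two, ht]
      rcases Int.even_or_odd' n with ⟨m, rfl | rfl⟩
      · left; rw [zpow_mul, h2', one_zpow]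
      · right; rw [zpow_add, zpow_mul, h2', one_zpow, one_mul, zpow_one]
    have hb2 : Commute h2 b := mem_centralizer_iff_commute.1 hb.2 h2 hh2
    have hd : ∀ a ∈ W, Commute (a * b * a⁻¹ * b⁻¹) a := fun a ha => (htc _ (ha.2 b hb.1) a ha.1).symm
    have hshift : ∀ a ∈ W, h2 * (a * b * a⁻¹ * b⁻¹) * h2⁻¹ = a * b * a⁻¹ * b⁻¹ := by
      intro a ha
      obtain ⟨n, hn⟩ := Subgroup.mem_zpowers_iff.1 (ha.2 b hb.1)
      rw [← hn, ((hBt h2 (hH2B hh2)).zpow_right n).eq, mul_inv_cancel_right]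
    have hb2' : h2 * b * h2⁻¹ = b := by rw [hb2.eq, mul_inv_cancel_right]
    have e1 : j * b * j⁻¹ * b⁻¹ = i * b * i⁻¹ * b⁻¹ := by
      calc j * b * j⁻¹ * b⁻¹
          = (h2 * i * h2⁻¹) * (h2 * b * h2⁻¹) * (h2 * i * h2⁻¹)⁻¹ * (h2 * b * h2⁻¹)⁻¹ := by
            rw [hjeq, hb2']
        _ = h2 * (i * b * i⁻¹ * b⁻¹) * h2⁻¹ := by group
        _ = _ := hshift i hiW
    have e2 : kk * b * kk⁻¹ * b⁻¹ = j * b * j⁻¹ * b⁻¹ := by
      calc kk * b * kk⁻¹ * b⁻¹
          = (h2 * j * h2⁻¹) * (h2 * b * h2⁻¹) * (h2 * j * h2⁻¹)⁻¹ * (h2 * b * h2⁻¹)⁻¹ := by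
            rw [hkeq, hb2']
        _ = h2 * (j * b * j⁻¹ * b⁻¹) * h2⁻¹ := by group
        _ = _ := hshift j hjW
    set d := i * b * i⁻¹ * b⁻¹ with hdd
    have hdQ : ∀ x ∈ Q, Commute x d := fun x hx => htc _ (hiW.2 b hb.1) x hx
    have hdd2 : d * d = 1 := by
      rcases hUel d (hiW.2 b hb.1) with e | e
      · rw [e, one_mul]
      · rw [e, ht]
    have hd3 : d * d * d = 1 := by
      have hb' : ∀ a : G, a * b * a⁻¹ * b⁻¹ = d → a * b * a⁻¹ = d * b := fun a ha => by
        rw [← ha]; group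
      have c1 := hb' i hdd.symm
      have c2 := hb' j e1
      have c3 := hb' kk (e2.trans e1)
      have hall : (i * j * kk) * b * (i * j * kk)⁻¹ = d * d * d * b := by
        calc (i * j * kk) * b * (i * j * kk)⁻¹ = i * (j * (kk * b * kk⁻¹) * j⁻¹) * i⁻¹ := by group
          _ = i * ((j * d * j⁻¹) * (j * b * j⁻¹)) * i⁻¹ := by rw [c3]; group
          _ = (i * d * i⁻¹) * (i * d * i⁻¹) * (i * b * i⁻¹) := by
              rw [(hdQ j hjR.1).eq, mul_inv_cancel_right, c2]; group
          _ = d * d * (d * b) := by rw [(hdQ i hiW.1).eq, mul_inv_cancel_right, c1]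
          _ = d * d * d * b := by group
      have hz : Commute (i * j * kk) b := by
        rcases hijk with e | e
        · rw [e]; exact Commute.one_left b
        · rw [e]; exact (hQt b hb.1).symm
      rw [hz.eq, mul_inv_cancel_right] at hall
      exact (mul_eq_right.1 hall.symm)
    have hd1 : d = 1 := by rwa [hdd2, one_mul] at hd3
    have conv : ∀ a : G, a * b * a⁻¹ * b⁻¹ = 1 → Commute a b := fun a ha => by
      rw [mul_inv_eq_one, mul_inv_eq_iff_eq_mul] at ha
      exact ha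
    exact ⟨conv i hd1, conv j (e1.trans hd1), conv kk ((e2.trans e1).trans hd1)⟩
  -- the involutions
  obtain ⟨cir, cjr, ckr⟩ := hcomm r hrR
  obtain ⟨cis, cjs, cks⟩ := hcomm s hsR
  obtain ⟨ciq, cjq, ckq⟩ := hcomm q hqR
  have hQt' : ∀ x ∈ Q, x * t = t * x := fun x hx => (hQt x hx).eq
  have hRQ1 : ∀ x ∈ R1, x ∈ Q := fun x hx => hx.1
  have hRQ2 : ∀ x ∈ R2, x ∈ Q := fun x hx => hx.1
  set u0 := i * r with hu0
  set v0 := j * s with hv0
  set w0 := kk * q with hw0
  have hu0Q : u0 ∈ Q := mul_mem hiW.1 hr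
  have hv0Q : v0 ∈ Q := mul_mem hjR.1 hsR.1
  have hw0Q : w0 ∈ Q := mul_mem hkR.1 hqR.1
  have hu02 : u0 * u0 = 1 := by
    calc i * r * (i * r) = i * (r * i) * r := by group
      _ = (i * i) * (r * r) := by rw [← cir.eq]; group
      _ = 1 := by rw [hi2, hr2, ht]
  have huv0 : Commute u0 v0 := by
    show i * r * (j * s) = j * s * (i * r)
    calc i * r * (j * s) = i * (r * j) * s := by group
      _ = (i * j) * (r * s) := by rw [← cjr.eq]; group
      _ = t * (j * i) * (t * (s * r)) := by rw [hij, hrs]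
      _ = t * ((j * i) * t) * (s * r) := by group
      _ = (j * i) * (s * r) := by
          rw [hQt' (j * i) (mul_mem hjR.1 hiW.1), ← mul_assoc t t, ht, one_mul]
      _ = j * (i * s) * r := by group
      _ = j * (s * i) * r := by rw [cis.eq]
      _ = j * s * (i * r) := by group
  have hyu : y * u0 * y⁻¹ = v0 := by rw [hu0, hv0, hj, hs]; group
  have hyv : y * v0 * y⁻¹ = w0 := by rw [hv0, hw0, hkk, hq]; group
  have hprod : u0 * v0 * w0 = 1 ∨ u0 * v0 * w0 = t := by
    have e : u0 * v0 * w0 = (i * j * kk) * (r * s * q) := by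
      calc i * r * (j * s) * (kk * q) = i * (r * j) * (s * kk) * q := by group
        _ = i * j * (r * kk) * s * q := by rw [← cjr.eq, ← cks.eq]; group
        _ = _ := by rw [← ckr.eq]; group
    rcases hijk with e1 | e1 <;> rcases hrsq with e2 | e2 <;> rw [e, e1, e2]
    · exact Or.inl (one_mul 1)
    · exact Or.inr (one_mul t)
    · exact Or.inr (mul_one t)
    · exact Or.inl ht
  obtain ⟨u, hu, huvw⟩ : ∃ u, (u = u0 ∨ u = u0 * t) ∧
      u * (y * u * y⁻¹) * (y * (y * u * y⁻¹) * y⁻¹) = 1 := by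
    rcases hprod with e | e
    · exact ⟨u0, Or.inl rfl, by rw [hyu, hyv, e]⟩
    · refine ⟨u0 * t, Or.inr rfl, ?_⟩
      have e1 : y * (u0 * t) * y⁻¹ = v0 * t := by
        rw [show y * (u0 * t) * y⁻¹ = (y * u0 * y⁻¹) * (y * t * y⁻¹) by group, hyu, hyt]
      have e2 : y * (v0 * t) * y⁻¹ = w0 * t := by
        rw [show y * (v0 * t) * y⁻¹ = (y * v0 * y⁻¹) * (y * t * y⁻¹) by group, hyv, hyt]
      rw [e1, e2]
      calc u0 * t * (v0 * t) * (w0 * t) = u0 * (t * v0) * t * w0 * t := by group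
        _ = u0 * v0 * (t * t) * w0 * t := by rw [← hQt' v0 hv0Q]; group
        _ = 1 := by rw [ht, mul_one, e, ht]
  set v := y * u * y⁻¹ with hv
  have huQ : u ∈ Q := by
    rcases hu with rfl | rfl
    · exact hu0Q
    · exact mul_mem hu0Q htQ
  have hvQ : v ∈ Q := conj_mem (hBQ hyB) huQ
  have hv' : v = v0 ∨ v = v0 * t := by
    rcases hu with rfl | rfl
    · exact Or.inl hyu
    · right
      rw [hv, show y * (u0 * t) * y⁻¹ = (y * u0 * y⁻¹) * (y * t * y⁻¹) by group, hyu, hyt]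
  have huu : u * u = 1 := by
    rcases hu with rfl | rfl
    · exact hu02
    · calc u0 * t * (u0 * t) = u0 * (t * u0) * t := by group
        _ = (u0 * u0) * (t * t) := by rw [← hQt' u0 hu0Q]; group
        _ = 1 := by rw [hu02, ht, one_mul]
  -- coincidences
  have hR12 : ∀ a ∈ R1, a ∈ R2 → a = 1 ∨ a = t := by
    intro a ha1 ha2
    exact hfix1 h2 (hH2B hh2) hh2' a ha1.1 ha1.2 (mem_centralizer_iff_commute.1 ha2.2 h2 hh2)
  have hu0ne : u0 ≠ 1 ∧ u0 ≠ t := by
    constructor <;> intro hh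
    · have e : i = r⁻¹ := eq_inv_of_mul_eq_one_left hh
      rcases hR12 i hiR (e ▸ inv_mem hrR) with e1 | e1
      · exact hi1.1 e1
      · exact hi1.2 e1
    · have e : i = t * r⁻¹ := eq_mul_inv_of_mul_eq hh
      rcases hR12 i hiR (e ▸ mul_mem hR2.ht (inv_mem hrR)) with e1 | e1
      · exact hi1.1 e1
      · exact hi1.2 e1
  have htt : t⁻¹ = t := inv_eq_of_mul_eq_one_right ht
  have hu1 : u ≠ 1 ∧ u ≠ t := by
    rcases hu with rfl | rfl
    · exact hu0ne
    · constructor <;> intro hh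
      · exact hu0ne.2 (by rw [eq_inv_of_mul_eq_one_left hh, htt])
      · exact hu0ne.1 (mul_right_cancel (hh.trans (one_mul t).symm))
  have huv : InvPair u v := by
    refine ⟨huu, ?_, hu1.1, ?_, ?_, ?_⟩
    · rw [hv, show y * u * y⁻¹ * (y * u * y⁻¹) = y * (u * u) * y⁻¹ by group, huu]; group
    · exact fun hh => hu1.1 (conj_eq_one_iff.1 hh)
    · intro hh
      have hh0 : u0 = v0 := by
        rcases hu with rfl | rfl
        · rw [← hyu]; exact hh
        · have : v = v0 * t := by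
            rw [hv, show y * (u0 * t) * y⁻¹ = (y * u0 * y⁻¹) * (y * t * y⁻¹) by group, hyu, hyt]
          exact mul_right_cancel (hh.trans this)
      have e : i⁻¹ * j = r * s⁻¹ := by
        calc i⁻¹ * j = i⁻¹ * (j * s) * s⁻¹ := by group
          _ = r * s⁻¹ := by rw [show j * s = i * r from hh0.symm]; group
      rcases hR12 (i⁻¹ * j) (mul_mem (inv_mem hiR) hjR) (e ▸ mul_mem hrR (inv_mem hsR)) with e1 | e1
      · exact hji (inv_mul_eq_one.1 e1).symm
      · refine hjii ?_
        have : j = i * t := by rw [← e1]; group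
        rw [this, ← hi2]
        calc i * (i * i) = (i * i) * (i * i) * i⁻¹ := by group
          _ = i⁻¹ := by rw [hi2, ht, one_mul]
    · rcases hu with rfl | rfl
      · rw [hv, hyu]; exact huv0
      · rw [hv, show y * (u0 * t) * y⁻¹ = (y * u0 * y⁻¹) * (y * t * y⁻¹) by group, hyu, hyt]
        exact (huv0.mul_right (hQt u0 hu0Q)).mul_left ((hQt v0 hv0Q).symm.mul_right rfl)
  have hvt : v ≠ t := fun hh => hu1.2 (mul_left_cancel (mul_right_cancel (hh.trans hyt.symm)))
  have hw : y * v * y⁻¹ = u * v := by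
    have h3 := inv_eq_of_mul_eq_one_right huvw
    rw [← h3, mul_inv_rev, inv_eq_of_mul_eq_one_right huv.hf, inv_eq_of_mul_eq_one_right huv.he]
    exact huv.comm.eq.symm
  have htuv : t ≠ u * v := by
    intro hh
    apply hu1.2
    rw [← hh] at hw
    have hvt' : v = t := mul_left_cancel (mul_right_cancel (hw.trans hyt.symm))
    exact absurd hvt' hvt
  -- the intersection of the hyperplanes
  set A := H1 ⊓ H2 with hA
  have hAB : A ≤ B := inf_le_left.trans hH1B
  have hAel := isElementaryAbelian_mono hB hAB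
  have hAc : Nat.card A * p = Nat.card H1 := by
    have hh1A : h1 ∉ A := fun hh => hh1' hh.2
    obtain ⟨-, hcardA⟩ := card_sup_zpowers hAel (hB.2 h1 (hH1B hh1))
      (mem_centralizer_iff_commute.2 fun x hx => hcB x (hAB hx) h1 (hH1B hh1)) hh1A
    rw [← hcardA]
    refine congrArg (fun K : Subgroup G => Nat.card K) (le_antisymm (sup_le inf_le_left (Subgroup.zpowers_le.2 hh1)) ?_)
    intro x hx
    obtain ⟨-, hcard2⟩ := card_sup_zpowers (isElementaryAbelian_mono hB hH2B) (hB.2 h1 (hH1B hh1))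
      (mem_centralizer_iff_commute.2 fun x hx => hcB x (hH2B hx) h1 (hH1B hh1)) hh1'
    have heq : H2 ⊔ Subgroup.zpowers h1 = B := Subgroup.eq_of_le_of_card_ge
      (sup_le hH2B (Subgroup.zpowers_le.2 (hH1B hh1))) (by rw [hcard2, hH2c])
    have hx' : x ∈ ((H2 ⊔ Subgroup.zpowers h1 : Subgroup G) : Set G) := by rw [heq]; exact hH1B hx
    rw [Subgroup.coe_mul_of_left_le_normalizer_right _ _ (le_trans
      (fun a ha => mem_centralizer_zpowers.2 (hcB a (hH2B ha) h1 (hH1B hh1)))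
      (Subgroup.centralizer_le_normalizer _))] at hx'
    obtain ⟨a, ha, b, hb, hab⟩ := hx'
    have hb1 : b ∈ H1 := Subgroup.zpowers_le.2 hh1 hb
    have ha1 : a ∈ H1 := by
      rw [show a = x * b⁻¹ by rw [← hab]; group]
      exact mul_mem hx (inv_mem hb1)
    rw [← hab]
    exact mul_mem (Subgroup.mem_sup_left ⟨ha1, ha⟩) (Subgroup.mem_sup_right hb)
  have hA2 : Nat.card A * p * p = p ^ k := by rw [hAc, hH1c, hc]
  have hA1 : A ≠ ⊥ := by
    intro hb
    rw [hb, Subgroup.card_bot, one_mul] at hA2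
    have h3 : p ^ 3 ≤ p ^ k := Nat.pow_le_pow_right hpF.out.pos h.hk
    nlinarith [hpF.out.two_le, pow_pos hpF.out.pos 2]
  have hcA : ∀ x ∈ A, ∀ z ∈ A, Commute x z := fun x hx z hz => hcB x (hAB hx) z (hAB hz)
  have hR1A : R1 ≤ Subgroup.centralizer (A : Set G) := fun x hx =>
    Subgroup.centralizer_le (SetLike.coe_subset_coe.2 inf_le_left) hx.2
  have hR2A : R2 ≤ Subgroup.centralizer (A : Set G) := fun x hx =>
    Subgroup.centralizer_le (SetLike.coe_subset_coe.2 inf_le_right) hx.2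
  have htA : t ∈ Subgroup.centralizer (A : Set G) :=
    Subgroup.centralizer_le (SetLike.coe_subset_coe.2 hAB) htB
  have hu0A : u0 ∈ Subgroup.centralizer (A : Set G) := mul_mem (hR1A hiR) (hR2A hrR)
  have huA : u ∈ Subgroup.centralizer (A : Set G) := by
    rcases hu with rfl | rfl
    · exact hu0A
    · exact mul_mem hu0A htA
  have hvA : v ∈ Subgroup.centralizer (A : Set G) := by
    have hv0A : v0 ∈ Subgroup.centralizer (A : Set G) := mul_mem (hR1A hjR) (hR2A hsR)
    rcases hv' with e | e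
    · rw [e]; exact hv0A
    · rw [e]; exact mul_mem hv0A htA
  have hyA : y ∈ Subgroup.centralizer (A : Set G) :=
    mem_centralizer_iff_commute.2 fun x hx => hcB x (hAB hx) y hyB
  -- the conjugations
  have hjj : j * i * j⁻¹ = i * t := by
    calc j * i * j⁻¹ = t * (t * (j * i)) * j⁻¹ := by rw [← mul_assoc t t, ht, one_mul]
      _ = t * (i * j) * j⁻¹ := by rw [hij]
      _ = t * i := by group
      _ = i * t := (hQt' i hiW.1).symm
  have hiij : i * j * i⁻¹ = j * t := by
    calc i * j * i⁻¹ = t * (j * i) * i⁻¹ := by rw [hij]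
      _ = t * j := by group
      _ = j * t := (hQt' j hjR.1).symm
  have hji0 : j * u * j⁻¹ = u * t ∧ j * v * j⁻¹ = v ∧ i * u * i⁻¹ = u ∧ i * v * i⁻¹ = v * t := by
    have fj : j * t * j⁻¹ = t := by rw [hQt' j hjR.1, mul_inv_cancel_right]
    have fi : i * t * i⁻¹ = t := by rw [hQt' i hiW.1, mul_inv_cancel_right]
    have ju : j * u0 * j⁻¹ = u0 * t := by
      calc j * (i * r) * j⁻¹ = (j * i * j⁻¹) * (j * r * j⁻¹) := by group
        _ = i * t * r := by rw [hjj, cjr.eq, mul_inv_cancel_right]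
        _ = i * r * t := by rw [mul_assoc, ← hQt' r hr, ← mul_assoc]
    have jv : j * v0 * j⁻¹ = v0 := by
      calc j * (j * s) * j⁻¹ = j * (j * s * j⁻¹) := by group
        _ = j * s := by rw [show j * s * j⁻¹ = s by rw [cjs.eq, mul_inv_cancel_right]]
    have iu : i * u0 * i⁻¹ = u0 := by
      calc i * (i * r) * i⁻¹ = i * (i * r * i⁻¹) := by group
        _ = i * r := by rw [show i * r * i⁻¹ = r by rw [cir.eq, mul_inv_cancel_right]]
    have iv : i * v0 * i⁻¹ = v0 * t := by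
      calc i * (j * s) * i⁻¹ = (i * j * i⁻¹) * (i * s * i⁻¹) := by group
        _ = j * t * s := by rw [hiij, cis.eq, mul_inv_cancel_right]
        _ = j * s * t := by rw [mul_assoc, ← hQt' s hsR.1, ← mul_assoc]
    refine ⟨?_, ?_, ?_, ?_⟩
    · rcases hu with rfl | rfl
      · exact ju
      · rw [show j * (u0 * t) * j⁻¹ = (j * u0 * j⁻¹) * (j * t * j⁻¹) by group, ju, fj]
    · rcases hv' with e | e <;> rw [e]
      · exact jv
      · rw [show j * (v0 * t) * j⁻¹ = (j * v0 * j⁻¹) * (j * t * j⁻¹) by group, jv, fj]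
    · rcases hu with rfl | rfl
      · exact iu
      · rw [show i * (u0 * t) * i⁻¹ = (i * u0 * i⁻¹) * (i * t * i⁻¹) by group, iu, fi]
    · rcases hv' with e | e <;> rw [e]
      · exact iv
      · rw [show i * (v0 * t) * i⁻¹ = (i * v0 * i⁻¹) * (i * t * i⁻¹) by group, iv, fi]
  obtain ⟨hju, hjv, hiu, hiv⟩ := hji0
  have hut : Commute u t := hQt u huQ
  have hvt' : Commute v t := hQt v hvQ
  have hvtpair : InvPair v t := ⟨huv.hf, ht, huv.hnf, ht1, hvt, hvt'⟩
  have hutpair : InvPair u t := ⟨huu, ht, hu1.1, ht1, hu1.2, hut⟩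
  -- some element centralised by `u` and `v` is moved by `t`
  have hmove : ∀ a ∈ A, a ≠ 1 → ∃ x ∈ locCore p a, x ∈ Subgroup.centralizer (A : Set G) ∧
      Commute x u ∧ Commute x v ∧ ¬ Commute x t := by
    intro a ha ha1
    by_contra hcon
    push Not at hcon
    set P := locCore p a ⊓ Subgroup.centralizer (A : Set G) with hP
    have hPp : IsPGroup p P := IsPGroup.to_le (isPGroup_locCore p a) inf_le_left
    have hnorm : ∀ g ∈ Subgroup.centralizer (A : Set G), g ∈ Subgroup.normalizer (P : Set G) :=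
      fun g hg => mem_normalizer_inf
        (le_normalizer_locCore p a (mem_cz.2 (mem_centralizer_iff_commute.1 hg a ha).symm))
        (mem_normalizer_centralizer_of_forall hg)
    have hback : ∀ g ∈ Subgroup.centralizer (A : Set G), g * t * g⁻¹ = t → ∀ x ∈ P, ∀ w1 w2,
        Commute x (g * w1 * g⁻¹) → Commute x (g * w2 * g⁻¹) →
        (∀ x ∈ P, Commute x w1 → Commute x w2 → Commute x t) → Commute x t := by
      intro g hg hgt x hx w1 w2 c1 c2 hall
      have hx' : g⁻¹ * x * g ∈ P := by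
        have := conj_mem (inv_mem (hnorm g hg)) hx
        rwa [inv_inv] at this
      have d : ∀ w, Commute x (g * w * g⁻¹) → Commute (g⁻¹ * x * g) w := fun w hw =>
        (commute_conj_iff g).1 (by rwa [show g * (g⁻¹ * x * g) * g⁻¹ = x by group])
      have := commute_conj g (hall _ hx' (d _ c1) (d _ c2))
      rwa [show g * (g⁻¹ * x * g) * g⁻¹ = x by group, hgt] at this
    have hfi : i * t * i⁻¹ = t := by rw [hQt' i hiW.1, mul_inv_cancel_right]
    have hfj : j * t * j⁻¹ = t := by rw [hQt' j hjR.1, mul_inv_cancel_right]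
    have huvt : ∀ x ∈ P, Commute x u → Commute x v → Commute x t := fun x hx c1 c2 =>
      hcon x hx.1 hx.2 c1 c2
    have hA1' : ∀ x ∈ P, Commute x u → Commute x t := by
      intro x hx hxu
      refine commute_of_pair h.hp2 hvtpair (P := P ⊓ cz u) (IsPGroup.to_le hPp inf_le_left)
        (mem_normalizer_inf (hnorm v hvA) (Subgroup.le_normalizer (mem_cz.2 huv.comm.symm)))
        (mem_normalizer_inf (hnorm t htA) (Subgroup.le_normalizer (mem_cz.2 hut.symm)))
        (fun z hz hzv => huvt z hz.1 (mem_cz.1 hz.2) hzv) (fun _ _ hh => hh) ?_ ⟨hx, mem_cz.2 hxu⟩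
      intro z hz hzvt
      exact hback i (hR1A hiR) hfi z hz.1 u v (by rw [hiu]; exact mem_cz.1 hz.2) (by rw [hiv]; exact hzvt) huvt
    have hA2' : ∀ x ∈ P, Commute x (u * t) → Commute x t := fun x hx hxut =>
      hback j (hR1A hjR) hfj x hx u u (by rw [hju]; exact hxut) (by rw [hju]; exact hxut)
        (fun z hz c1 _ => hA1' z hz c1)
    have hall : ∀ x ∈ P, Commute x t := fun x hx =>
      commute_of_pair h.hp2 hutpair hPp (hnorm u huA) (hnorm t htA) hA1' (fun _ _ hh => hh) hA2' hx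
    exact ht1 (h.faithful_p (isPGroup_of_isElementaryAbelian hAel) ha ha1
      (fun x hx => hcA x hx a ha) (coprime_of_sq h.hp2 (by rw [pow_two, ht])) htA
      fun x hx hxA => (hall x ⟨hx, hxA⟩).symm)
  by_cases hcase : p < Nat.card A
  · -- rank of `A` at least `2`
    set F := Subgroup.closure ({u, v} : Set G) with hF
    have hFA : F ≤ Subgroup.centralizer (A : Set G) := by
      rw [hF, Subgroup.closure_le]
      rintro z (rfl | rfl)
      · exact huA
      · exact hvA
    have hmemF : ∀ x, Commute x u → Commute x v → x ∈ Subgroup.centralizer (F : Set G) := by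
      intro x c1 c2
      have hle : F ≤ cz x := by
        rw [hF, Subgroup.closure_le]
        rintro z (rfl | rfl)
        · exact mem_cz.2 c1.symm
        · exact mem_cz.2 c2.symm
      exact mem_centralizer_iff_commute.2 fun z hz => mem_cz.1 (hle hz)
    have huF : u ∈ F := Subgroup.subset_closure (by simp)
    have hvF : v ∈ F := Subgroup.subset_closure (by simp)
    have hsup : ∀ x, x ∈ Subgroup.centralizer (A : Set G) → ∀ w ∈ Subgroup.centralizer (A : Set G),
        Commute x w → w ∈ Subgroup.centralizer ((A ⊔ Subgroup.zpowers x : Subgroup G) : Set G) := by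
      intro x _ w hw hxw
      have hle : A ⊔ Subgroup.zpowers x ≤ cz w := sup_le
        (fun b hb => mem_cz.2 (mem_centralizer_iff_commute.1 hw b hb))
        (Subgroup.zpowers_le.2 (mem_cz.2 hxw))
      exact mem_centralizer_iff_commute.2 fun b hb => mem_cz.1 (hle hb)
    refine h.main hAel hcase ht huu hu1.1 huF hFA htA (hmemF t hut.symm hvt'.symm) ?_ ?_ ?_
      (small_of_closed h.hp2 hB hQp hBQ hfaith hAB hA1
        ((isClosedIn_hyperplane hB hH1B hH1c hne1).inf (isClosedIn_hyperplane hB hH2B hH2c hne2)))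
    · intro x z hxA hxF hzA hzF hxp hzp hx1 hxt hzt hxz
      by_contra hzx
      have hxn : x ∉ A := fun hm => hx1 (eq_one_of_inverted (p := p) h.hp2 hxt
        (mem_centralizer_iff_commute.1 htA x hm) ⟨1, by rw [pow_one, hxp]⟩)
      obtain ⟨he1, hc1⟩ := card_sup_zpowers hAel hxp hxA hxn
      have hzn : z ∉ A ⊔ Subgroup.zpowers x := by
        intro hm
        have hm' : z ∈ ((A ⊔ Subgroup.zpowers x : Subgroup G) : Set G) := hm
        rw [Subgroup.coe_mul_of_left_le_normalizer_right _ _ (le_trans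
          (fun b hb => mem_centralizer_zpowers.2 (mem_centralizer_iff_commute.1 hxA b hb))
          (Subgroup.centralizer_le_normalizer _))] at hm'
        obtain ⟨τ, hτ, z', hz', hzz⟩ := hm'
        obtain ⟨n, rfl⟩ := Subgroup.mem_zpowers_iff.1 hz'
        have hzz : τ * x ^ n = z := hzz
        have hτc : Commute τ t := mem_centralizer_iff_commute.1 htA τ hτ
        have hτx : Commute τ x := mem_centralizer_iff_commute.1 hxA τ hτ
        have e1 : t * z * t⁻¹ = τ * (x ^ n)⁻¹ := by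
          rw [← hzz]
          calc t * (τ * x ^ n) * t⁻¹ = (t * τ * t⁻¹) * (t * x * t⁻¹) ^ n := by rw [conj_zpow]; group
            _ = τ * (x ^ n)⁻¹ := by rw [← hτc.eq, mul_inv_cancel_right, hxt, inv_zpow]
        rw [hzt, ← hzz, mul_inv_rev, ((hτx.zpow_right n).inv_inv).eq.symm] at e1
        have hτ2 : τ ^ 2 = 1 := by
          have := mul_right_cancel e1
          rw [inv_eq_iff_mul_eq_one] at this
          rwa [pow_two]
        have hτ1 : τ = 1 := by
          have hg := pow_gcd_eq_one.2 ⟨hτ2, hAel.2 τ hτ⟩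
          rwa [(two_coprime h.hp2).gcd_eq_one, pow_one] at hg
        rw [hτ1, one_mul] at hzz
        exact hzx ⟨n, hzz⟩
      obtain ⟨he2, hc2⟩ := card_sup_zpowers he1 hzp (hsup x hxA z hzA hxz) hzn
      have hcw : ∀ w ∈ F, w ∈ Subgroup.centralizer
          ((A ⊔ Subgroup.zpowers x ⊔ Subgroup.zpowers z : Subgroup G) : Set G) := by
        intro w hw
        have hle : A ⊔ Subgroup.zpowers x ⊔ Subgroup.zpowers z ≤ cz w := sup_le (sup_le
          (fun b hb => mem_cz.2 (mem_centralizer_iff_commute.1 (hFA hw) b hb))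
          (Subgroup.zpowers_le.2 (mem_cz.2 (mem_centralizer_iff_commute.1 hxF w hw).symm)))
          (Subgroup.zpowers_le.2 (mem_cz.2 (mem_centralizer_iff_commute.1 hzF w hw).symm))
        exact mem_centralizer_iff_commute.2 fun b hb => mem_cz.1 (hle hb)
      exact h.no_four he2 (by rw [hc2, hc1, hA2]) huv (hcw u huF) (hcw v hvF)
    · intro c hcA' hcF hcp hct
      by_contra hcm
      obtain ⟨he1, hc1⟩ := card_sup_zpowers hAel hcp hcA' hcm
      exact h.no_eight he1 (by rw [hc1, hA2]) huv ht hut.symm hvt'.symm ht1 hu1.2.symm hvt.symm htuv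
        (hsup c hcA' u huA (mem_centralizer_iff_commute.1 hcF u huF).symm)
        (hsup c hcA' v hvA (mem_centralizer_iff_commute.1 hcF v hvF).symm) (hsup c hcA' t htA hct)
    · intro a ha ha1
      obtain ⟨x, hx, hxA, c1, c2, c3⟩ := hmove a ha ha1
      exact ⟨x, hx, hxA, hmemF x c1 c2, c3⟩
  · -- `A` of order `p`, `k = 3`
    push Not at hcase
    have hAp : Nat.card A = p := by
      obtain ⟨n, hn⟩ := IsPGroup.iff_card.1 (isPGroup_of_isElementaryAbelian hAel)
      rcases n with _ | n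
      · exact absurd (Subgroup.eq_bot_of_card_eq A (by rw [hn, pow_zero])) hA1
      · refine le_antisymm hcase ?_
        rw [hn, pow_succ]
        exact Nat.le_mul_of_pos_left p (pow_pos hpF.out.pos n)
    obtain ⟨a, ha, ha1⟩ := (A.bot_or_exists_ne_one).resolve_left hA1
    set P := locCore p a ⊓ Subgroup.centralizer (A : Set G) with hP
    set P2 := P ⊓ cz u ⊓ cz v with hP2
    have hnorm : ∀ g ∈ Subgroup.centralizer (A : Set G), g ∈ Subgroup.normalizer (P : Set G) :=
      fun g hg => mem_normalizer_inf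
        (le_normalizer_locCore p a (mem_cz.2 (mem_centralizer_iff_commute.1 hg a ha).symm))
        (mem_normalizer_centralizer_of_forall hg)
    have hyP2 : y ∈ Subgroup.normalizer (P2 : Set G) := by
      refine mem_normalizer_of_conj_mem fun x hx => ?_
      have hxuv : ∀ w, w = u ∨ w = v → Commute x w := by
        rintro w (rfl | rfl)
        · exact mem_cz.1 hx.1.2
        · exact mem_cz.1 hx.2
      have c1 : Commute (y * x * y⁻¹) v := commute_conj y (hxuv u (Or.inl rfl))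
      have c2 : Commute (y * x * y⁻¹) (u * v) := by
        have := commute_conj y (hxuv v (Or.inr rfl))
        rwa [hw] at this
      have c3 : Commute (y * x * y⁻¹) u := by
        have := c2.mul_right c1
        rwa [mul_assoc u v v, huv.hf, mul_one] at this
      exact ⟨⟨conj_mem (hnorm y hyA) hx.1.1, mem_cz.2 c3⟩, mem_cz.2 c1⟩
    obtain ⟨x0, hx0, hx0A, c1, c2, c3⟩ := hmove a ha ha1
    obtain ⟨x, hxP, hxp, hx1, hxt, hxy⟩ := exists_inverted_fixed h.hp2 (P := P2)
      (B := Subgroup.zpowers y) (t := t)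
      (IsPGroup.to_le (isPGroup_locCore p a) (inf_le_left.trans (inf_le_left.trans inf_le_left))) ht
      (mem_normalizer_inf (mem_normalizer_inf (hnorm t htA) (Subgroup.le_normalizer (mem_cz.2 hut.symm)))
        (Subgroup.le_normalizer (mem_cz.2 hvt'.symm)))
      (isPGroup_of_isElementaryAbelian (isElementaryAbelian_zpowers hyp))
      (Subgroup.zpowers_le.2 (mem_cz.2 (hBt y hyB))) (Subgroup.zpowers_le.2 hyP2)
      ⟨x0, ⟨⟨⟨hx0, hx0A⟩, mem_cz.2 c1⟩, mem_cz.2 c2⟩, c3⟩
    have hxA : x ∈ Subgroup.centralizer (A : Set G) := hxP.1.1.2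
    have hxn : x ∉ A := fun hm => hx1 (eq_one_of_inverted (p := p) h.hp2 hxt
      (mem_centralizer_iff_commute.1 htA x hm) ⟨1, by rw [pow_one, hxp]⟩)
    obtain ⟨hT, hTc⟩ := card_sup_zpowers hAel hxp hxA hxn
    set T := A ⊔ Subgroup.zpowers x with hTd
    have hmemT : ∀ w ∈ Subgroup.centralizer (A : Set G), Commute x w →
        w ∈ Subgroup.centralizer (T : Set G) := by
      intro w hw hxw
      have hle : T ≤ cz w := sup_le
        (fun b hb => mem_cz.2 (mem_centralizer_iff_commute.1 hw b hb))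
        (Subgroup.zpowers_le.2 (mem_cz.2 hxw))
      exact mem_centralizer_iff_commute.2 fun b hb => mem_cz.1 (hle hb)
    have hxu : Commute x u := mem_cz.1 hxP.1.2
    have hxv : Commute x v := mem_cz.1 hxP.2
    have huT := hmemT u huA hxu
    have hvT := hmemT v hvA hxv
    have hyT := hmemT y hyA (mem_centralizer_iff_commute.1 hxy y (Subgroup.mem_zpowers y)).symm
    have hsmall : HasSmall p T := by
      by_contra hns
      simp only [HasSmall, not_exists, not_and] at hns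
      have hcT : ∀ z ∈ T, ∀ z' ∈ T, Commute z z' := fun z hz z' hz' =>
        congrArg Subtype.val (hT.1.is_comm.comm (⟨z, hz⟩ : T) ⟨z', hz'⟩)
      have hall : ∀ d ∈ T, d ≠ 1 → x ∈ locCore p d := by
        intro d hd hd1
        have hnd := hns d hd hd1
        push Not at hnd
        obtain ⟨c, hcm, hcP, hcz⟩ := hnd
        have hdP : d ∈ locCore p d := le_map_pCore (N := Subgroup.zpowers d)
          (Subgroup.zpowers_le.2 (mem_cz.2 (Commute.refl d)))
          (isPGroup_of_isElementaryAbelian (isElementaryAbelian_zpowers (hT.2 d hd)))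
          (fun g hg z hz => by
            obtain ⟨n, rfl⟩ := Subgroup.mem_zpowers_iff.1 hz
            rw [((mem_cz.1 hg).zpow_right n).eq, mul_inv_cancel_right]
            exact zpow_mem (Subgroup.mem_zpowers d) n) (Subgroup.mem_zpowers d)
        obtain ⟨-, hdc⟩ := card_sup_zpowers (isElementaryAbelian_zpowers (hT.2 d hd)) (hT.2 c hcm)
          (mem_centralizer_iff_commute.2 fun z hz => by
            obtain ⟨n, rfl⟩ := Subgroup.mem_zpowers_iff.1 hz
            exact (hcT d hd c hcm).zpow_left n) hcz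
        have hd' : Nat.card (Subgroup.zpowers d) = p := by
          rw [Nat.card_zpowers, orderOf_eq_prime (hT.2 d hd) hd1]
        have hTeq : Subgroup.zpowers d ⊔ Subgroup.zpowers c = T := Subgroup.eq_of_le_of_card_ge
          (sup_le (Subgroup.zpowers_le.2 hd) (Subgroup.zpowers_le.2 hcm))
          (by rw [hdc, hd', hTc, hAp])
        have hxT : x ∈ Subgroup.zpowers d ⊔ Subgroup.zpowers c :=
          hTeq.symm ▸ Subgroup.mem_sup_right (Subgroup.mem_zpowers x)
        exact (sup_le (Subgroup.zpowers_le.2 hdP) (Subgroup.zpowers_le.2 hcP)) hxT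
      -- `x` centralises `O₂(C(u))`
      set Uu := Subgroup.zpowers u with hUu
      have hUu1 : Uu ≠ ⊥ := fun hb => hu1.1 (by
        have := Subgroup.mem_zpowers u
        rwa [← hUu, hb, Subgroup.mem_bot] at this)
      have hUup : IsPGroup 2 Uu := IsPGroup.of_card (n := 1)
        (by rw [hUu, Nat.card_zpowers, pow_one]; exact orderOf_eq_prime (by rw [pow_two, huu]) hu1.1)
      have hnu : ∀ g, Commute g u → g ∈ Subgroup.normalizer (normCore 2 Uu : Set G) := fun g hg =>
        le_normalizer_normCore 2 Uu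
          (Subgroup.centralizer_le_normalizer _ (mem_centralizer_zpowers.2 hg))
      haveI := hT.1
      have hcyc : ¬ IsCyclic T := by
        intro hcy
        obtain ⟨g, hg⟩ := IsCyclic.exists_ofOrder_eq_natCard (α := T)
        have := Nat.le_of_dvd hpF.out.pos
          (orderOf_dvd_of_pow_eq_one (Subtype.ext (hT.2 _ g.2) : g ^ p = 1))
        rw [hg, hTc, hAp] at this
        nlinarith [hpF.out.two_le]
      have hle : normCore 2 Uu ≤ cz x := le_of_centralizers hcyc
        (fun b hb => hnu b (mem_centralizer_iff_commute.1 huT b hb))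
        (card_coprime_of_isPGroup h.hp2 (isPGroup_normCore 2 Uu)
          (isPGroup_of_isElementaryAbelian hT)).symm
        fun d hd hd1 z hz => mem_cz.2 (commute_of_mem_locCore h.hp2 (hall d hd hd1)
          (X := normCore 2 Uu ⊓ cz d) (IsPGroup.to_le (isPGroup_normCore 2 Uu) inf_le_left) inf_le_right
          (mem_normalizer_inf (hnu x hxu) (Subgroup.le_normalizer
            (mem_cz.2 (hcT x (Subgroup.mem_sup_right (Subgroup.mem_zpowers x)) d hd)))) hz).symm
      exact hx1 (h.faithful_two hUup hUu1 hxp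
        (Subgroup.centralizer_le_normalizer _ (mem_centralizer_zpowers.2 hxu))
        fun z hz => (mem_cz.1 (hle hz)).symm)
    exact h.no_sym hT (by rw [hTc]; exact hA2) huv huT hvT hyT (Or.inr ⟨rfl, hw⟩) hsmall

end Hyp

/-- Klinger and Mason. -/
theorem twoLocal_pRank_le_two (hp : p ≠ 2) (hGp : IsOfLocalCharacteristic p G)
    (hG2 : IsCharacteristicTwoType G) : TwoLocalPRankLE p 2 G := by
  classical
  by_contra hcon
  simp only [TwoLocalPRankLE, PRankLE, not_forall, not_le] at hcon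
  obtain ⟨M, ⟨S0, hS0, hS01, rfl⟩, A, hA1, hA2, hA3⟩ := hcon
  have hAel : IsElementaryAbelian p (A.map (Subgroup.normalizer (S0 : Set G)).subtype) :=
    isElementaryAbelian_map (show IsElementaryAbelian p A from ⟨hA1, hA2⟩) _
  have hAc : Nat.card (A.map (Subgroup.normalizer (S0 : Set G)).subtype) = Nat.card A :=
    (Nat.card_congr (A.equivMapOfInjective _ (Subgroup.subtype_injective _)).toEquiv).symm
  let Pk : ℕ → Prop := fun n => ∃ B S : Subgroup G, IsElementaryAbelian p B ∧ Nat.card B = p ^ n ∧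
    IsPGroup 2 S ∧ S ≠ ⊥ ∧ B ≤ Subgroup.normalizer (S : Set G)
  obtain ⟨n, hn⟩ := IsPGroup.iff_card.1 (isPGroup_of_isElementaryAbelian hAel)
  have hn3 : 3 ≤ n := by
    by_contra hlt
    have := Nat.pow_le_pow_right hpF.out.pos (show n ≤ 2 by omega)
    rw [← hn, hAc] at this
    omega
  have hPn : Pk n := ⟨_, S0, hAel, hn, hS0, hS01, Subgroup.map_subtype_le _⟩
  have hbound : ∀ m, Pk m → m ≤ Nat.card G := by
    rintro m ⟨B, S, -, hB, -⟩
    calc m ≤ p ^ m := (Nat.lt_pow_self hpF.out.one_lt).le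
      _ = Nat.card B := hB.symm
      _ ≤ Nat.card G := Subgroup.card_le_card_group B
  set k := Nat.findGreatest Pk (Nat.card G) with hk
  have hPk : Pk k := Nat.findGreatest_spec (hbound n hPn) hPn
  have hmax : ∀ m, Pk m → m ≤ k := fun m hm => Nat.le_findGreatest (hbound m hm) hm
  have h : Hyp p k G :=
    { hp2 := hp
      hGp := hGp
      hG2 := hG2
      hk := hn3.trans (hmax n hPn)
      rank := fun B S hB hS hS1 hBS => by
        obtain ⟨m, hm⟩ := IsPGroup.iff_card.1 (isPGroup_of_isElementaryAbelian hB)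
        rw [hm]
        exact Nat.pow_le_pow_right hpF.out.pos (hmax m ⟨B, S, hB, hm, hS, hS1, hBS⟩) }
  obtain ⟨B, S, hB, hBc, hS, hS1, hBS⟩ := hPk
  obtain ⟨t, ht, ht1, htB⟩ := h.exists_centralised hB hBc hS hS1 hBS
  exact h.no_centralised hB hBc ht ht1 htB

end CfsgLib.Quasithin.Klinger
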