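import Cfsg.Agent.Lib.Quasithin.KlingerBasic

/-!
Groups of characteristic `{2,p}` type whose `2`-locals have `p`-rank at most `k`: the consequences for
elementary abelian subgroups of rank `k - 1` and the commutator argument.
-/

set_option autoImplicit false

namespace CfsgLib.Quasithin.Klinger

open Cfsg CfsgLib.Cores CfsgLib.CoprimeAction CfsgLib.ThompsonJ

universe u

/-- The standing hypotheses. -/
structure Hyp (p k : ℕ) (G : Type u) [Group G] : Prop where
  hp2 : p ≠ 2
  hGp : IsOfLocalCharacteristic p G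
  hG2 : IsCharacteristicTwoType G
  hk : 3 ≤ k
  rank : ∀ (B S : Subgroup G), IsElementaryAbelian p B → IsPGroup 2 S → S ≠ ⊥ →
    B ≤ Subgroup.normalizer (S : Set G) → Nat.card B ≤ p ^ k

variable {G : Type u} [Group G] [Finite G] {p : ℕ} [hpF : Fact p.Prime] {k : ℕ}

namespace Hyp

variable (h : Hyp p k G)
include h

theorem rank_cz {B : Subgroup G} (hB : IsElementaryAbelian p B) {e : G} (he : e * e = 1)
    (hne : e ≠ 1) (hBe : B ≤ Subgroup.centralizer (Subgroup.zpowers e : Set G)) :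
    Nat.card B ≤ p ^ k := by
  haveI : Fact (Nat.Prime 2) := ⟨Nat.prime_two⟩
  refine h.rank B (Subgroup.zpowers e) hB
    (IsPGroup.of_card (n := 1) (by rw [Nat.card_zpowers, pow_one]; exact orderOf_eq_prime (by rw [pow_two, he]) hne))
    (fun hb => hne ?_) (hBe.trans (Subgroup.centralizer_le_normalizer _))
  have := Subgroup.mem_zpowers e
  rwa [hb, Subgroup.mem_bot] at this

/-- Faithfulness on `O_p(C(a)) ∩ C(T)`. -/
theorem faithful_p {a : G} {T : Subgroup G} (hT : IsPGroup p T) (haT : a ∈ T) (ha : a ≠ 1)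
    (hab : ∀ x ∈ T, Commute x a) {s : G} (hs : (orderOf s).Coprime p)
    (hsT : s ∈ Subgroup.centralizer (T : Set G))
    (hc : ∀ q ∈ locCore p a, q ∈ Subgroup.centralizer (T : Set G) → Commute s q) : s = 1 := by
  set A := Subgroup.zpowers a with hA
  set N := Subgroup.normalizer (A : Set G) with hN
  have hAp : IsPGroup p A := IsPGroup.to_le hT (Subgroup.zpowers_le.2 haT)
  have hAne : A ≠ ⊥ := fun hb => ha (by
    have := Subgroup.mem_zpowers a
    rwa [← hA, hb, Subgroup.mem_bot] at this)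
  have hchar := h.hGp.2 A hAp hAne
  have hczN : cz a ≤ N := by
    refine le_trans (fun x hx => ?_) (Subgroup.centralizer_le_normalizer _)
    rw [mem_centralizer_iff_commute]
    intro z hz
    obtain ⟨n, rfl⟩ := Subgroup.mem_zpowers_iff.1 hz
    exact (mem_cz.1 hx).symm.zpow_left n
  have hsa : s ∈ cz a := mem_cz.2 (mem_centralizer_iff_commute.1 hsT a haT).symm
  have hTa : T ≤ cz a := fun x hx => mem_cz.2 (hab x hx)
  have hQp : IsPGroup p (normCore p A) := isPGroup_normCore p A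
  have hle : normCore p A ⊓ cz a ≤ locCore p a := by
    refine le_map_pCore inf_le_right (IsPGroup.to_le hQp inf_le_left) fun g hg x hx => ⟨?_, ?_⟩
    · exact conj_mem (le_normalizer_normCore p A (hczN hg)) hx.1
    · exact (cz a).mul_mem ((cz a).mul_mem hg hx.2) ((cz a).inv_mem hg)
  have key : ∀ q ∈ normCore p A, Commute s q :=
    CfsgLib.StronglyPEmbedded.commute_of_axb hT hQp
      ((hTa.trans hczN).trans (le_normalizer_normCore p A)) hs hsT
      (le_normalizer_normCore p A (hczN hsa))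
      fun q hq hqT => hc q (hle ⟨hq, mem_cz.2 (mem_centralizer_iff_commute.1 hqT a haT).symm⟩) hqT
  have hmem : (⟨s, hczN hsa⟩ : N) ∈ pCore p N := hchar (by
    rw [Subgroup.mem_centralizer_iff]
    intro q hq
    exact Subtype.ext (key _ ⟨q, hq, rfl⟩).eq.symm)
  exact CfsgLib.StronglyPEmbedded.eq_one_of_mem_pGroup_of_coprime hQp ⟨_, hmem, rfl⟩ hs

/-- Faithfulness on `O₂(N(S))`. -/
theorem faithful_two {S : Subgroup G} (hS : IsPGroup 2 S) (hS1 : S ≠ ⊥) {x : G}
    (hx : x ^ p = 1) (hxS : x ∈ Subgroup.normalizer (S : Set G))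
    (hc : ∀ q ∈ normCore 2 S, Commute x q) : x = 1 := by
  have hchar : Subgroup.centralizer (pCore 2 (Subgroup.normalizer (S : Set G)) :
      Set (Subgroup.normalizer (S : Set G))) ≤ pCore 2 (Subgroup.normalizer (S : Set G)) :=
    h.hG2.2 S hS hS1
  have hmem : (⟨x, hxS⟩ : Subgroup.normalizer (S : Set G)) ∈ pCore 2 _ := hchar (by
    rw [Subgroup.mem_centralizer_iff]
    intro q hq
    exact Subtype.ext (hc _ ⟨q, hq, rfl⟩).eq.symm)
  exact eq_one_of_mem_both h.hp2 (isPGroup_normCore 2 S)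
    (isPGroup_of_isElementaryAbelian (isElementaryAbelian_zpowers hx)) ⟨_, hmem, rfl⟩
    (Subgroup.mem_zpowers x)

theorem one_lt_pow {n : ℕ} (hn : n ≠ 0) : 1 < p ^ n := Nat.one_lt_pow hn hpF.out.one_lt

theorem exists_ne_one_of_card {T : Subgroup G} {n : ℕ} (hn : n ≠ 0) (hT : Nat.card T = p ^ n) :
    ∃ a ∈ T, a ≠ 1 := by
  refine (T.bot_or_exists_ne_one).resolve_left fun hb => ?_
  rw [hb, Subgroup.card_bot] at hT
  exact absurd hT (h.one_lt_pow hn).ne

/-- No four group centralises an elementary abelian subgroup of rank `k`. -/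
theorem no_four {B : Subgroup G} (hB : IsElementaryAbelian p B) (hc : Nat.card B = p ^ k) {e f : G}
    (hef : InvPair e f) (he : e ∈ Subgroup.centralizer (B : Set G))
    (hf : f ∈ Subgroup.centralizer (B : Set G)) : False := by
  obtain ⟨a, haB, ha⟩ := h.exists_ne_one_of_card (by have := h.hk; omega) hc
  have hcB : ∀ x ∈ B, ∀ y ∈ B, Commute x y := fun x hx y hy =>
    congrArg Subtype.val (hB.1.is_comm.comm (⟨x, hx⟩ : B) ⟨y, hy⟩)
  set P := locCore p a ⊓ Subgroup.centralizer (B : Set G) with hP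
  have hPp : IsPGroup p P := IsPGroup.to_le (isPGroup_locCore p a) inf_le_left
  have hnorm : ∀ g ∈ Subgroup.centralizer (B : Set G), g ∈ Subgroup.normalizer (P : Set G) :=
    fun g hg => mem_normalizer_inf
      (le_normalizer_locCore p a (mem_cz.2 (mem_centralizer_iff_commute.1 hg a haB).symm))
      (mem_normalizer_centralizer_of_forall hg)
  have hne : ∃ q ∈ P, ¬ Commute q e := by
    by_contra hh
    push Not at hh
    exact hef.hne (h.faithful_p (isPGroup_of_isElementaryAbelian hB) haB ha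
      (fun x hx => hcB x hx a haB) (coprime_of_sq h.hp2 (by rw [pow_two, hef.he])) he
      fun q hq hqB => (hh q ⟨hq, hqB⟩).symm)
  obtain ⟨g, hg, q, hq, hqg, hqe⟩ := exists_moved h.hp2 hef hPp (hnorm e he) (hnorm f hf) hne
  have hgB : g ∈ Subgroup.centralizer (B : Set G) := by
    rcases hg with rfl | rfl
    · exact hf
    · exact mul_mem he hf
  have hgg : g * g = 1 ∧ g ≠ 1 ∧ Commute g e := by
    rcases hg with rfl | rfl
    · exact ⟨hef.hf, hef.hnf, hef.comm.symm⟩
    · exact ⟨hef.mul_right.hf, hef.mul_right.hnf, hef.mul_right.comm.symm⟩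
  set P' := P ⊓ cz g with hP'
  obtain ⟨x, hxP, hxp, hx1, hxe, hxB⟩ := exists_inverted_fixed h.hp2 (P := P') (B := B) (t := e)
    (IsPGroup.to_le hPp inf_le_left) hef.he
    (mem_normalizer_inf (hnorm e he) (Subgroup.le_normalizer (mem_cz.2 hgg.2.2.symm)))
    (isPGroup_of_isElementaryAbelian hB)
    (fun b hb => mem_cz.2 (mem_centralizer_iff_commute.1 he b hb))
    (fun b hb => mem_normalizer_inf (hnorm b (mem_centralizer_iff_commute.2 fun z hz => hcB z hz b hb))
      (Subgroup.le_normalizer (mem_cz.2 (mem_centralizer_iff_commute.1 hgB b hb))))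
    ⟨q, ⟨hq, mem_cz.2 hqg⟩, hqe⟩
  have hxnB : x ∉ B := fun hxm =>
    hx1 (eq_one_of_inverted (p := p) h.hp2 hxe (mem_centralizer_iff_commute.1 he x hxm)
      ⟨1, by rw [pow_one, hxp]⟩)
  obtain ⟨hel, hcard⟩ := card_sup_zpowers hB hxp hxB hxnB
  have hle : B ⊔ Subgroup.zpowers x ≤ Subgroup.centralizer (Subgroup.zpowers g : Set G) := by
    rw [Subgroup.le_centralizer_iff, Subgroup.zpowers_le, mem_centralizer_iff_commute]
    intro b hb
    have : B ⊔ Subgroup.zpowers x ≤ cz g := sup_le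
      (fun c hcm => mem_cz.2 (mem_centralizer_iff_commute.1 hgB c hcm))
      (Subgroup.zpowers_le.2 hxP.2)
    exact mem_cz.1 (this hb)
  have := h.rank_cz hel hgg.1 hgg.2.1 hle
  rw [hcard, hc] at this
  nlinarith [hpF.out.two_le, pow_pos hpF.out.pos k]

/-- No elementary group of order `8` centralises an elementary abelian subgroup of rank `k - 1`. -/
theorem no_eight {T : Subgroup G} (hT : IsElementaryAbelian p T) (hc : Nat.card T * p = p ^ k)
    {e f g : G} (hef : InvPair e f) (hg : g * g = 1) (hge : Commute g e) (hgf : Commute g f)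
    (hg1 : g ≠ 1) (hg2 : g ≠ e) (hg3 : g ≠ f) (hg4 : g ≠ e * f)
    (he : e ∈ Subgroup.centralizer (T : Set G)) (hf : f ∈ Subgroup.centralizer (T : Set G))
    (hgT : g ∈ Subgroup.centralizer (T : Set G)) : False := by
  obtain ⟨m, hm⟩ : ∃ m, k = m + 1 := ⟨k - 1, by have := h.hk; omega⟩
  have hcT : Nat.card T = p ^ m := by
    rw [hm, pow_succ] at hc
    exact mul_right_cancel₀ hpF.out.ne_zero hc
  obtain ⟨a, haT, ha⟩ := h.exists_ne_one_of_card (by have := h.hk; omega) hcT
  have hcc : ∀ x ∈ T, ∀ y ∈ T, Commute x y := fun x hx y hy =>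
    congrArg Subtype.val (hT.1.is_comm.comm (⟨x, hx⟩ : T) ⟨y, hy⟩)
  set P := locCore p a ⊓ Subgroup.centralizer (T : Set G) with hP
  have hPp : IsPGroup p P := IsPGroup.to_le (isPGroup_locCore p a) inf_le_left
  have hnorm : ∀ y ∈ Subgroup.centralizer (T : Set G), y ∈ Subgroup.normalizer (P : Set G) :=
    fun y hy => mem_normalizer_inf
      (le_normalizer_locCore p a (mem_cz.2 (mem_centralizer_iff_commute.1 hy a haT).symm))
      (mem_normalizer_centralizer_of_forall hy)
  have hne : ∃ q ∈ P, ¬ Commute q g := by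
    by_contra hh
    push Not at hh
    exact hg1 (h.faithful_p (isPGroup_of_isElementaryAbelian hT) haT ha
      (fun x hx => hcc x hx a haT) (coprime_of_sq h.hp2 (by rw [pow_two, hg])) hgT
      fun q hq hqB => (hh q ⟨hq, hqB⟩).symm)
  obtain ⟨u, hu, q, hq, hqu, hqg⟩ := exists_moved h.hp2
    (⟨hg, hef.he, hg1, hef.hne, hg2, hge⟩ : InvPair g e) hPp (hnorm g hgT) (hnorm e he) hne
  have huT : u ∈ Subgroup.centralizer (T : Set G) := by
    rcases hu with rfl | rfl
    · exact he
    · exact mul_mem hgT he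
  have hug : Commute g u := by
    rcases hu with rfl | rfl
    · exact hge
    · exact (Commute.refl g).mul_right hge
  have huf : Commute u f := by
    rcases hu with rfl | rfl
    · exact hef.comm
    · exact hgf.mul_left hef.comm
  set P1 := P ⊓ cz u with hP1
  obtain ⟨v, hv, q', hq', hq'v, hq'g⟩ := exists_moved h.hp2
    (⟨hg, hef.hf, hg1, hef.hnf, hg3, hgf⟩ : InvPair g f) (P := P1)
    (IsPGroup.to_le hPp inf_le_left)
    (mem_normalizer_inf (hnorm g hgT) (Subgroup.le_normalizer (mem_cz.2 hug)))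
    (mem_normalizer_inf (hnorm f hf) (Subgroup.le_normalizer (mem_cz.2 huf.symm)))
    ⟨q, ⟨hq, mem_cz.2 hqu⟩, hqg⟩
  have hvT : v ∈ Subgroup.centralizer (T : Set G) := by
    rcases hv with rfl | rfl
    · exact hf
    · exact mul_mem hgT hf
  have hvg : Commute g v := by
    rcases hv with rfl | rfl
    · exact hgf
    · exact (Commute.refl g).mul_right hgf
  have huv : Commute u v := by
    rcases hv with rfl | rfl
    · exact huf
    · exact hug.symm.mul_right huf
  have hge' : InvPair g e := ⟨hg, hef.he, hg1, hef.hne, hg2, hge⟩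
  have hgf' : InvPair g f := ⟨hg, hef.hf, hg1, hef.hnf, hg3, hgf⟩
  have hpair : InvPair u v := by
    refine ⟨?_, ?_, ?_, ?_, ?_, huv⟩
    · rcases hu with rfl | rfl
      · exact hef.he
      · exact hge'.mul_right.hf
    · rcases hv with rfl | rfl
      · exact hef.hf
      · exact hgf'.mul_right.hf
    · rcases hu with rfl | rfl
      · exact hef.hne
      · exact hge'.mul_right.hnf
    · rcases hv with rfl | rfl
      · exact hef.hnf
      · exact hgf'.mul_right.hnf
    · have e1 : e⁻¹ = e := inv_eq_of_mul_eq_one_right hef.he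
      have f1 : f⁻¹ = f := inv_eq_of_mul_eq_one_right hef.hf
      intro hh
      rcases hu with hu | hu <;> rcases hv with hv | hv <;> rw [hu, hv] at hh
      · exact hef.hef hh
      · refine hg4 ?_
        calc g = g * f * f⁻¹ := by group
          _ = e * f := by rw [← hh, f1]
      · refine hg4 ?_
        calc g = g * e * e⁻¹ := by group
          _ = f * e := by rw [hh, e1]
          _ = e * f := hef.comm.eq.symm
      · exact hef.hef (mul_left_cancel hh)
  obtain ⟨x, hxP, hxp, hx1, hxe, hxT⟩ := exists_inverted_fixed h.hp2 (P := P1 ⊓ cz v) (B := T) (t := g)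
    (IsPGroup.to_le hPp (inf_le_left.trans inf_le_left)) hg
    (mem_normalizer_inf (mem_normalizer_inf (hnorm g hgT) (Subgroup.le_normalizer (mem_cz.2 hug)))
      (Subgroup.le_normalizer (mem_cz.2 hvg)))
    (isPGroup_of_isElementaryAbelian hT)
    (fun b hb => mem_cz.2 (mem_centralizer_iff_commute.1 hgT b hb))
    (fun b hb => mem_normalizer_inf (mem_normalizer_inf
      (hnorm b (mem_centralizer_iff_commute.2 fun z hz => hcc z hz b hb))
      (Subgroup.le_normalizer (mem_cz.2 (mem_centralizer_iff_commute.1 huT b hb))))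
      (Subgroup.le_normalizer (mem_cz.2 (mem_centralizer_iff_commute.1 hvT b hb))))
    ⟨q', ⟨hq', mem_cz.2 hq'v⟩, hq'g⟩
  have hxnT : x ∉ T := fun hxm =>
    hx1 (eq_one_of_inverted (p := p) h.hp2 hxe (mem_centralizer_iff_commute.1 hgT x hxm)
      ⟨1, by rw [pow_one, hxp]⟩)
  obtain ⟨hel, hcard⟩ := card_sup_zpowers hT hxp hxT hxnT
  have hmem : ∀ w, w ∈ Subgroup.centralizer (T : Set G) → x ∈ cz w →
      w ∈ Subgroup.centralizer ((T ⊔ Subgroup.zpowers x : Subgroup G) : Set G) := by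
    intro w hw hxw
    rw [mem_centralizer_iff_commute]
    intro c hcm
    have : T ⊔ Subgroup.zpowers x ≤ cz w := sup_le
      (fun d hd => mem_cz.2 (mem_centralizer_iff_commute.1 hw d hd)) (Subgroup.zpowers_le.2 hxw)
    exact mem_cz.1 (this hcm)
  exact h.no_four hel (by rw [hcard, hc]) hpair (hmem u huT hxP.1.2) (hmem v hvT hxP.2)

/-- The commutator argument. -/
theorem main {T F : Subgroup G} (hT : IsElementaryAbelian p T) (hT2 : p < Nat.card T) {t u : G}
    (ht : t * t = 1) (hu : u * u = 1) (hu1 : u ≠ 1) (huF : u ∈ F)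
    (hFT : F ≤ Subgroup.centralizer (T : Set G)) (htT : t ∈ Subgroup.centralizer (T : Set G))
    (htF : t ∈ Subgroup.centralizer (F : Set G))
    (hrk : ∀ x y : G, x ∈ Subgroup.centralizer (T : Set G) → x ∈ Subgroup.centralizer (F : Set G) →
      y ∈ Subgroup.centralizer (T : Set G) → y ∈ Subgroup.centralizer (F : Set G) →
      x ^ p = 1 → y ^ p = 1 → x ≠ 1 → t * x * t⁻¹ = x⁻¹ → t * y * t⁻¹ = y⁻¹ → Commute x y →
      y ∈ Subgroup.zpowers x)
    (hfix : ∀ c : G, c ∈ Subgroup.centralizer (T : Set G) → c ∈ Subgroup.centralizer (F : Set G) →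
      c ^ p = 1 → Commute c t → c ∈ T)
    (hmove : ∀ a ∈ T, a ≠ 1 → ∃ q ∈ locCore p a, q ∈ Subgroup.centralizer (T : Set G) ∧
      q ∈ Subgroup.centralizer (F : Set G) ∧ ¬ Commute q t)
    (hsmall : ∃ a ∈ T, a ≠ 1 ∧ ∀ c ∈ T, c ∈ locCore p a → c ∈ Subgroup.zpowers a) : False := by
  haveI : Fact (Nat.Prime 2) := ⟨Nat.prime_two⟩
  set Γ := Subgroup.centralizer (T : Set G) ⊓ Subgroup.centralizer (F : Set G) with hΓ
  have hcT : ∀ x ∈ T, ∀ y ∈ T, Commute x y := fun x hx y hy =>
    congrArg Subtype.val (hT.1.is_comm.comm (⟨x, hx⟩ : T) ⟨y, hy⟩)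
  let N : G → Subgroup G := fun b => locCore p b ⊓ Γ
  have hΓb : ∀ b ∈ T, Γ ≤ cz b := fun b hb g hg =>
    mem_cz.2 (mem_centralizer_iff_commute.1 hg.1 b hb).symm
  have htN : ∀ b ∈ T, t ∈ Subgroup.normalizer (N b : Set G) := fun b hb =>
    mem_normalizer_inf (le_normalizer_locCore p b (mem_cz.2 (mem_centralizer_iff_commute.1 htT b hb).symm))
      (mem_normalizer_inf (mem_normalizer_centralizer_of_forall htT)
        (mem_normalizer_centralizer_of_forall htF))
  have hΓN : ∀ b ∈ T, Γ ≤ Subgroup.normalizer (N b : Set G) := fun b hb g hg =>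
    mem_normalizer_inf (le_normalizer_locCore p b (hΓb b hb hg)) (Subgroup.le_normalizer hg)
  set S : Set G := {x | ∃ b ∈ T, b ≠ 1 ∧ x ∈ N b ∧ t * x * t⁻¹ = x⁻¹} with hS
  set K := Subgroup.closure S with hK
  have hKΓ : K ≤ Γ := by
    rw [hK, Subgroup.closure_le]
    rintro x ⟨b, -, -, hx, -⟩
    exact hx.2
  have hKp : IsPGroup p K := by
    refine IsPGroup.to_le ((isPGroup_pCore p Γ).map Γ.subtype) ?_
    rw [hK, Subgroup.closure_le]
    rintro x ⟨b, hb, -, hx, -⟩
    refine le_map_pCore (inf_le_right : N b ≤ Γ)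
      (IsPGroup.to_le (isPGroup_locCore p b) inf_le_left) (fun g hg y hy => ?_) hx
    exact conj_mem (hΓN b hb hg) hy
  have hKt : ∀ k ∈ K, t * k * t⁻¹ ∈ K := by
    intro k hk
    have hle : K ≤ K.comap (MulAut.conj t).toMonoidHom := by
      conv_lhs => rw [hK]
      rw [Subgroup.closure_le]
      intro w hw
      show t * w * t⁻¹ ∈ K
      obtain ⟨b, hb, hb1, hwN, hwt⟩ := hw
      rw [hwt]
      exact inv_mem (Subgroup.subset_closure ⟨b, hb, hb1, hwN, hwt⟩)
    exact hle hk
  have hex : ∀ b ∈ T, b ≠ 1 → ∃ x ∈ N b, x ∈ K ∧ x ≠ 1 ∧ x ^ p = 1 ∧ t * x * t⁻¹ = x⁻¹ ∧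
      ∀ k ∈ K, ∀ k' ∈ K, Commute (x * k * x⁻¹ * k⁻¹) k' := by
    intro b hb hb1
    obtain ⟨q, hq, hqT, hqF, hqt⟩ := hmove b hb hb1
    obtain ⟨y, hyN, hyp, hy1, hyt, -⟩ := exists_inverted_fixed h.hp2 (P := N b) (B := (⊥ : Subgroup G))
      (t := t) (IsPGroup.to_le (isPGroup_locCore p b) inf_le_left) ht (htN b hb)
      IsPGroup.of_bot bot_le bot_le ⟨q, ⟨hq, hqT, hqF⟩, hqt⟩
    obtain ⟨x, hx, hx1, hxp, hxt, hxc⟩ := exists_inverted_second_centre h.hp2 (K := K)
      (N := N b ⊓ K) (t := t) (S := S) hKp rfl (by rintro w ⟨_, _, _, _, hw⟩; exact hw) ht inf_le_right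
      (fun k hk x hx => ⟨conj_mem (hΓN b hb (hKΓ hk)) hx.1, K.mul_mem (K.mul_mem hk hx.2) (K.inv_mem hk)⟩)
      (fun x hx => ⟨conj_mem (htN b hb) hx.1, hKt x hx.2⟩)
      ⟨y, ⟨hyN, Subgroup.subset_closure ⟨b, hb, hb1, hyN, hyt⟩⟩, hy1, hyt⟩
    exact ⟨x, hx.1, hx.2, hx1, hxp, hxt, hxc⟩
  obtain ⟨a, haT, ha1, hasmall⟩ := hsmall
  obtain ⟨x, hxN, hxK, hx1, hxp, hxt, hxc⟩ := hex a haT ha1
  set U := Subgroup.zpowers u with hU
  have hU1 : U ≠ ⊥ := fun hb => hu1 (by
    have := Subgroup.mem_zpowers u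
    rwa [← hU, hb, Subgroup.mem_bot] at this)
  have hUp : IsPGroup 2 U := IsPGroup.of_card (n := 1)
    (by rw [hU, Nat.card_zpowers, pow_one]; exact orderOf_eq_prime (by rw [pow_two, hu]) hu1)
  set Q := normCore 2 U with hQ
  have hcU : ∀ g, Commute g u → g ∈ Subgroup.normalizer (U : Set G) := fun g hg => by
    refine Subgroup.centralizer_le_normalizer _ (mem_centralizer_iff_commute.2 fun z hz => ?_)
    obtain ⟨n, rfl⟩ := Subgroup.mem_zpowers_iff.1 hz
    exact hg.symm.zpow_left n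
  have hxu : Commute x u := (mem_centralizer_iff_commute.1 hxN.2.2 u huF).symm
  have hTu : ∀ b ∈ T, Commute b u := fun b hb => mem_centralizer_iff_commute.1 (hFT huF) b hb
  have hx2 : ∀ d ∈ T, d ≠ 1 → Q ⊓ cz d ≤ cz x := by
    intro d hd hd1 q hq
    have hQd : IsPGroup 2 (Q ⊓ cz d : Subgroup G) :=
      IsPGroup.to_le (isPGroup_normCore 2 U) inf_le_left
    have hnrm : ∀ g : G, Commute g u → Commute g d →
        g ∈ Subgroup.normalizer ((Q ⊓ cz d : Subgroup G) : Set G) := fun g h1 h2 =>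
      mem_normalizer_inf (le_normalizer_normCore 2 U (hcU g h1)) (Subgroup.le_normalizer (mem_cz.2 h2))
    obtain ⟨y, hyN, hyK, hy1, hyp, hyt, hyc⟩ := hex d hd hd1
    set c := x * y * x⁻¹ * y⁻¹ with hc
    have hxd : Commute x d := (mem_centralizer_iff_commute.1 hxN.2.1 d hd).symm
    by_cases hc1 : c = 1
    · have hxy : Commute x y := by
        rw [hc, mul_inv_eq_one, mul_inv_eq_iff_eq_mul] at hc1
        exact hc1
      have hyz := hrk y x hyN.2.1 hyN.2.2 hxN.2.1 hxN.2.2 hyp hxp hy1 hyt hxt hxy.symm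
      have hxd' : x ∈ locCore p d := Subgroup.zpowers_le.2 hyN.1 hyz
      exact mem_cz.2 (commute_of_mem_locCore h.hp2 hxd' hQd inf_le_right (hnrm x hxu hxd) hq).symm
    · have hcK : ∀ k' ∈ K, Commute c k' := fun k' hk' => hxc y hyK k' hk'
      have hxy' : x * y * x⁻¹ = c * y := by rw [hc]; group
      have hconj : ∀ n : ℕ, x ^ n * y * (x ^ n)⁻¹ = c ^ n * y := by
        intro n
        induction n with
        | zero => simp
        | succ n ih =>
          calc x ^ (n + 1) * y * (x ^ (n + 1))⁻¹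
              = x * (x ^ n * y * (x ^ n)⁻¹) * x⁻¹ := by rw [pow_succ']; group
            _ = (x * c ^ n * x⁻¹) * (x * y * x⁻¹) := by rw [ih]; group
            _ = c ^ n * (c * y) := by
                rw [hxy', ← ((hcK x hxK).pow_left n).eq, mul_inv_cancel_right]
            _ = c ^ (n + 1) * y := by rw [pow_succ]; group
      have hcp : c ^ p = 1 := by
        have := hconj p
        rwa [hxp, one_mul, inv_one, mul_one, eq_comm, mul_eq_right] at this
      have hct : Commute c t := by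
        have e1 : t * c * t⁻¹ = (t * x * t⁻¹) * (t * y * t⁻¹) * (t * x * t⁻¹)⁻¹ * (t * y * t⁻¹)⁻¹ := by
          rw [hc]; group
        rw [hxt, hyt, inv_inv, inv_inv] at e1
        have e2 : c * (y * x) = x * y := by rw [hc]; group
        have e3 : (c * (y * x))⁻¹ = (x * y)⁻¹ := by rw [e2]
        have hcxy : Commute c (x⁻¹ * y⁻¹) :=
          (hcK x hxK).inv_right.mul_right (hcK y hyK).inv_right
        have e4 : x⁻¹ * y⁻¹ * x * y = c := by
          have : x⁻¹ * y⁻¹ * c⁻¹ = y⁻¹ * x⁻¹ := by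
            calc x⁻¹ * y⁻¹ * c⁻¹ = (c * (y * x))⁻¹ := by group
              _ = (x * y)⁻¹ := e3
              _ = y⁻¹ * x⁻¹ := by group
          calc x⁻¹ * y⁻¹ * x * y = x⁻¹ * y⁻¹ * (y⁻¹ * x⁻¹)⁻¹ := by group
            _ = x⁻¹ * y⁻¹ * (x⁻¹ * y⁻¹ * c⁻¹)⁻¹ := by rw [this]
            _ = (x⁻¹ * y⁻¹ * c) * (x⁻¹ * y⁻¹)⁻¹ := by group
            _ = c := by rw [← hcxy.eq, mul_inv_cancel_right]
        rw [e4] at e1
        exact (mul_inv_eq_iff_eq_mul.1 e1).symm
      have hcN : c ∈ N a ∧ c ∈ N d := by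
        refine ⟨?_, ?_⟩
        · rw [hc, show x * y * x⁻¹ * y⁻¹ = x * (y * x⁻¹ * y⁻¹) by group]
          exact mul_mem hxN (conj_mem (hΓN a haT (hKΓ hyK)) (inv_mem hxN))
        · exact mul_mem (conj_mem (hΓN d hd (hKΓ hxK)) hyN) (inv_mem hyN)
      have hcTm : c ∈ T := hfix c hcN.1.2.1 hcN.1.2.2 hcp hct
      have hca := hasmall c hcTm hcN.1.1
      have had : a ∈ locCore p d := by
        have ho : orderOf a = p := orderOf_eq_prime (hT.2 a haT) ha1
        have hoc : orderOf c = p := orderOf_eq_prime hcp hc1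
        have heq : Subgroup.zpowers c = Subgroup.zpowers a :=
          Subgroup.eq_of_le_of_card_ge (Subgroup.zpowers_le.2 hca)
            (by rw [Nat.card_zpowers, Nat.card_zpowers, ho, hoc])
        exact Subgroup.zpowers_le.2 hcN.2.1 (heq ▸ Subgroup.mem_zpowers a)
      have hqa : Commute a q :=
        commute_of_mem_locCore h.hp2 had hQd inf_le_right (hnrm a (hTu a haT) (hcT a haT d hd)) hq
      have hQa : IsPGroup 2 (Q ⊓ cz a : Subgroup G) :=
        IsPGroup.to_le (isPGroup_normCore 2 U) inf_le_left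
      exact mem_cz.2 (commute_of_mem_locCore h.hp2 hxN.1 hQa inf_le_right
        (mem_normalizer_inf (le_normalizer_normCore 2 U (hcU x hxu))
          (Subgroup.le_normalizer (mem_cz.2 (mem_centralizer_iff_commute.1 hxN.2.1 a haT).symm)))
        ⟨hq.1, mem_cz.2 hqa.symm⟩).symm
  haveI := hT.1
  have hcyc : ¬ IsCyclic T := by
    intro hc
    obtain ⟨g, hg⟩ := IsCyclic.exists_ofOrder_eq_natCard (α := T)
    have := Nat.le_of_dvd hpF.out.pos (orderOf_dvd_of_pow_eq_one (Subtype.ext (hT.2 _ g.2) : g ^ p = 1))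
    omega
  have hle : Q ≤ cz x := le_of_centralizers hcyc
    (fun b hb => le_normalizer_normCore 2 U (hcU b (hTu b hb)))
    (card_coprime_of_isPGroup h.hp2 (isPGroup_normCore 2 U)
      (isPGroup_of_isElementaryAbelian hT)).symm hx2
  exact hx1 (h.faithful_two hUp hU1 hxp (hcU x hxu) fun q hq => (mem_cz.1 (hle hq)).symm)

end Hyp

end CfsgLib.Quasithin.Klinger
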