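import Cfsg.Agent.Lib.Quasithin.KlingerRankOne

/-!
Groups of characteristic `{2,p}` type have `2`-local `p`-rank at most `2` (Klinger and Mason).
-/

set_option autoImplicit false

namespace CfsgLib.Quasithin.Klinger

open Cfsg CfsgLib.Cores CfsgLib.CoprimeAction CfsgLib.ThompsonJ

universe u

variable {G : Type u} [Group G] [Finite G] {p : ℕ} [hpF : Fact p.Prime] {k : ℕ}

theorem mem_centralizer_zpowers {t g : G} :
    g ∈ Subgroup.centralizer (Subgroup.zpowers t : Set G) ↔ Commute g t := by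
  rw [mem_centralizer_iff_commute]
  refine ⟨fun h => (h t (Subgroup.mem_zpowers t)).symm, fun h z hz => ?_⟩
  obtain ⟨n, rfl⟩ := Subgroup.mem_zpowers_iff.1 hz
  exact h.symm.zpow_left n

theorem commute_of_normalizes {t g : G} (ht : t * t = 1) (ht1 : t ≠ 1)
    (hg : g ∈ Subgroup.normalizer (Subgroup.zpowers t : Set G)) : Commute g t := by
  obtain ⟨n, hn⟩ := Subgroup.mem_zpowers_iff.1 (conj_mem hg (Subgroup.mem_zpowers t))
  have h2 : t ^ (2 : ℤ) = 1 := by rw [zpow_two, ht]
  rcases Int.even_or_odd' n with ⟨m, rfl | rfl⟩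
  · rw [zpow_mul, h2, one_zpow] at hn
    exact absurd (conj_eq_one_iff.1 hn.symm) ht1
  · rw [zpow_add, zpow_mul, h2, one_zpow, one_mul, zpow_one] at hn
    exact mul_inv_eq_iff_eq_mul.1 hn.symm

theorem exists_notMem_two {B H1 H2 : Subgroup G} (h1 : H1 ≤ B) (h2 : H2 ≤ B) (hne : H1 ≠ H2)
    (hc : Nat.card H1 = Nat.card H2) : ∃ a ∈ H1, a ∉ H2 := by
  by_contra hcon
  push Not at hcon
  exact hne (Subgroup.eq_of_le_of_card_ge hcon hc.ge)

namespace Hyp

variable (h : Hyp p k G)
include h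

theorem bot_lt_card {B : Subgroup G} (hc : Nat.card B = p ^ k) {H : Subgroup G}
    (hH : Nat.card H * p = Nat.card B) : p < Nat.card H ∧ H ≠ ⊥ := by
  have h3 : p ^ 3 ≤ p ^ k := Nat.pow_le_pow_right hpF.out.pos h.hk
  have h4 : p < Nat.card H := by
    by_contra hle
    push Not at hle
    have : Nat.card H * p ≤ p * p := Nat.mul_le_mul_right p hle
    nlinarith [hpF.out.two_le, pow_pos hpF.out.pos 2]
  refine ⟨h4, fun hb => ?_⟩
  rw [hb, Subgroup.card_bot] at h4
  linarith [hpF.out.two_le]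

/-- Some rank `k` subgroup centralises an involution. -/
theorem exists_centralised {B S : Subgroup G} (hB : IsElementaryAbelian p B)
    (hc : Nat.card B = p ^ k) (hS : IsPGroup 2 S) (hS1 : S ≠ ⊥)
    (hBS : B ≤ Subgroup.normalizer (S : Set G)) :
    ∃ t, t * t = 1 ∧ t ≠ 1 ∧ t ∈ Subgroup.centralizer (B : Set G) := by
  haveI : Fact (Nat.Prime 2) := ⟨Nat.prime_two⟩
  by_contra hcon
  push Not at hcon
  set Q := normCore 2 S with hQ
  have hQp : IsPGroup 2 Q := isPGroup_normCore 2 S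
  have hBQ : B ≤ Subgroup.normalizer (Q : Set G) := hBS.trans (le_normalizer_normCore 2 S)
  have hfaith : ∀ b ∈ B, (∀ q ∈ Q, Commute b q) → b = 1 := fun b hb hbq =>
    h.faithful_two hS hS1 (hB.2 b hb) (hBS hb) hbq
  obtain ⟨b0, hb0, hb01⟩ := h.exists_ne_one_of_card (by have := h.hk; omega) hc
  obtain ⟨H, hHB, hHc, v, hv, q, hq, hqH, hvq⟩ := exists_hyperplane h.hp2 hB hQp hBQ le_rfl
    (by
      by_contra hh
      push Not at hh
      exact hb01 (hfaith b0 hb0 (hh b0 hb0)))
  set R := Q ⊓ Subgroup.centralizer (H : Set G) with hR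
  haveI : Nontrivial R := ⟨⟨⟨q, hq, hqH⟩, 1, fun hh => by
    have h1 : q = 1 := congrArg Subtype.val hh
    rw [h1] at hvq
    exact hvq (Commute.one_right v)⟩⟩
  have hRp : IsPGroup 2 R := IsPGroup.to_le hQp inf_le_left
  haveI := hRp.center_nontrivial
  obtain ⟨z0, hz0⟩ := exists_ne (1 : Subgroup.center R)
  obtain ⟨z1, hz1⟩ := exists_prime_orderOf_dvd_card' (G := Subgroup.center R) 2 (by
    obtain ⟨n, hn⟩ := IsPGroup.iff_card.1 (hRp.to_subgroup (Subgroup.center R))
    rcases n with _ | n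
    · exact absurd hn (by rw [pow_zero]; exact Finite.one_lt_card.ne')
    · rw [hn, pow_succ]; exact dvd_mul_left _ _)
  obtain ⟨hz2, hz11⟩ := orderOf_eq_prime_iff.1 hz1
  set z : G := ((z1 : R) : G) with hz
  have hzR : z ∈ R := (z1 : R).2
  have hzz : z * z = 1 := by
    rw [← pow_two]
    exact congrArg (fun w : Subgroup.center R => ((w : R) : G)) hz2
  have hz1' : z ≠ 1 := fun hh => hz11 (Subtype.ext (Subtype.ext hh))
  have hzc : ∀ r ∈ R, Commute r z := fun r hr =>
    congrArg Subtype.val (Subgroup.mem_center_iff.1 z1.2 ⟨r, hr⟩)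
  obtain ⟨y, hyB, hyH⟩ : ∃ y ∈ B, y ∉ H := exists_mem_notMem_of_card (by
    rw [← hHc]
    have := (h.bot_lt_card hc hHc).1
    nlinarith [hpF.out.two_le])
  have hcB : ∀ x ∈ B, ∀ w ∈ B, Commute x w := fun x hx w hw =>
    congrArg Subtype.val (hB.1.is_comm.comm (⟨x, hx⟩ : B) ⟨w, hw⟩)
  have hyR : y ∈ Subgroup.normalizer (R : Set G) := mem_normalizer_inf (hBQ hyB)
    (mem_normalizer_centralizer_of_forall (mem_centralizer_iff_commute.2 fun x hx => hcB x (hHB hx) y hyB))
  have hyz : ¬ Commute y z := by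
    intro hyz
    apply hcon z hzz hz1'
    obtain ⟨he, hcard⟩ := card_sup_zpowers (isElementaryAbelian_mono hB hHB) (hB.2 y hyB)
      (mem_centralizer_iff_commute.2 fun x hx => hcB x (hHB hx) y hyB) hyH
    have heq : H ⊔ Subgroup.zpowers y = B :=
      Subgroup.eq_of_le_of_card_ge (sup_le hHB (Subgroup.zpowers_le.2 hyB)) (by rw [hcard, hHc])
    have hle : H ⊔ Subgroup.zpowers y ≤ cz z := sup_le
      (fun x hx => mem_cz.2 (mem_centralizer_iff_commute.1 hzR.2 x hx))
      (Subgroup.zpowers_le.2 (mem_cz.2 hyz))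
    exact mem_centralizer_iff_commute.2 fun x hx => mem_cz.1 (hle (heq ▸ hx))
  have hclosed := isClosedIn_hyperplane (Q := Q) hB hHB hHc ⟨v, hv, q, hq, hqH, hvq⟩
  have hsmall := small_of_closed h.hp2 hB hQp hBQ hfaith hHB (h.bot_lt_card hc hHc).2 hclosed
  set v1 := y * z * y⁻¹ with hv1
  set w := y * v1 * y⁻¹ with hw
  have hv1R : v1 ∈ R := conj_mem hyR hzR
  have hwR : w ∈ R := conj_mem hyR hv1R
  have hzv : InvPair z v1 := by
    refine ⟨hzz, ?_, hz1', ?_, ?_, (hzc v1 hv1R).symm⟩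
    · rw [hv1, show y * z * y⁻¹ * (y * z * y⁻¹) = y * (z * z) * y⁻¹ by group, hzz]; group
    · exact fun hh => hz1' (conj_eq_one_iff.1 hh)
    · intro hh
      exact hyz (mul_inv_eq_iff_eq_mul.1 (hv1 ▸ hh.symm))
  have hw2 : w * w = 1 := by
    rw [hw, show y * v1 * y⁻¹ * (y * v1 * y⁻¹) = y * (v1 * v1) * y⁻¹ by group, hzv.hf]; group
  have hcH : ∀ r ∈ R, r ∈ Subgroup.centralizer (H : Set G) := fun r hr => hr.2
  have hHk : Nat.card H * p = p ^ k := hHc.trans hc
  by_cases hw4 : w = z * v1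
  · refine h.no_sym (isElementaryAbelian_mono hB hHB) hHk hzv (hcH z hzR) (hcH v1 hv1R)
      (mem_centralizer_iff_commute.2 fun x hx => hcB x (hHB hx) y hyB) (Or.inr ⟨rfl, hw4⟩) hsmall
  · refine h.no_eight (isElementaryAbelian_mono hB hHB) hHk hzv hw2 (hzc w hwR) ?_ ?_ ?_ ?_ hw4
      (hcH z hzR) (hcH v1 hv1R) (hcH w hwR)
    · rw [hw, hv1]
      exact commute_conj y (hzc v1 hv1R)
    · exact fun hh => hzv.hnf (conj_eq_one_iff.1 hh)
    · intro hh
      refine hyz (commute_of_pow (hB.2 y hyB) (two_coprime h.hp2) ?_)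
      have e : y ^ 2 * z * (y ^ 2)⁻¹ = z := by
        rw [pow_two]
        calc y * y * z * (y * y)⁻¹ = y * (y * z * y⁻¹) * y⁻¹ := by group
          _ = z := hh
      exact mul_inv_eq_iff_eq_mul.1 e
    · intro hh
      have e : y * v1 * y⁻¹ = y * z * y⁻¹ := hh.trans hv1
      exact hzv.hef (mul_left_cancel (mul_right_cancel e)).symm

/-- The centraliser in `O₂(C(t))` of a hyperplane of `B` is `Q₈` or `⟨t⟩`. -/
theorem special {B : Subgroup G} (hB : IsElementaryAbelian p B) (hc : Nat.card B = p ^ k) {t : G}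
    (ht : t * t = 1) (ht1 : t ≠ 1) (htB : t ∈ Subgroup.centralizer (B : Set G)) {H : Subgroup G}
    (hHB : H ≤ B) (hHc : Nat.card H * p = Nat.card B)
    (hne : ∃ v ∈ B, ∃ q ∈ normCore 2 (Subgroup.zpowers t),
      q ∈ Subgroup.centralizer (H : Set G) ∧ ¬ Commute v q) :
    QEight (normCore 2 (Subgroup.zpowers t) ⊓ Subgroup.centralizer (H : Set G)) t ∧
      (∀ y ∈ B, y ∉ H → ∀ r ∈ normCore 2 (Subgroup.zpowers t),
        r ∈ Subgroup.centralizer (H : Set G) → Commute y r → r = 1 ∨ r = t) := by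
  haveI : Fact (Nat.Prime 2) := ⟨Nat.prime_two⟩
  set U := Subgroup.zpowers t with hU
  set Q := normCore 2 U with hQ
  have hUp : IsPGroup 2 U := IsPGroup.of_card (n := 1)
    (by rw [hU, Nat.card_zpowers, pow_one]; exact orderOf_eq_prime (by rw [pow_two, ht]) ht1)
  have hU1 : U ≠ ⊥ := fun hb => ht1 (by
    have := Subgroup.mem_zpowers t
    rwa [← hU, hb, Subgroup.mem_bot] at this)
  have hBU : B ≤ Subgroup.normalizer (U : Set G) := fun b hb =>
    Subgroup.centralizer_le_normalizer _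
      (mem_centralizer_zpowers.2 (mem_centralizer_iff_commute.1 htB b hb))
  have hQp : IsPGroup 2 Q := isPGroup_normCore 2 U
  have hBQ : B ≤ Subgroup.normalizer (Q : Set G) := hBU.trans (le_normalizer_normCore 2 U)
  have hfaith : ∀ b ∈ B, (∀ q ∈ Q, Commute b q) → b = 1 := fun b hb hbq =>
    h.faithful_two hUp hU1 (hB.2 b hb) (hBU hb) hbq
  have htQ : t ∈ Q := le_map_pCore Subgroup.le_normalizer hUp
    (fun g hg x hx => conj_mem hg hx) (Subgroup.mem_zpowers t)
  have hQt : ∀ q ∈ Q, Commute q t := fun q hq => commute_of_normalizes ht ht1 (normCore_le 2 U hq)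
  have hcB : ∀ x ∈ B, ∀ w ∈ B, Commute x w := fun x hx w hw =>
    congrArg Subtype.val (hB.1.is_comm.comm (⟨x, hx⟩ : B) ⟨w, hw⟩)
  have hclosed := isClosedIn_hyperplane hB hHB hHc hne
  have hsmall := small_of_closed h.hp2 hB hQp hBQ hfaith hHB (h.bot_lt_card hc hHc).2 hclosed
  have hHel := isElementaryAbelian_mono hB hHB
  have hHk : Nat.card H * p = p ^ k := hHc.trans hc
  set R := Q ⊓ Subgroup.centralizer (H : Set G) with hR
  have htH : t ∈ Subgroup.centralizer (H : Set G) :=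
    Subgroup.centralizer_le (SetLike.coe_subset_coe.2 hHB) htB
  have key : ∀ y ∈ B, y ∉ H → ∀ r ∈ R, Commute y r → r ∈ Subgroup.centralizer (B : Set G) := by
    intro y hyB hyH r hr hyr
    obtain ⟨he, hcard⟩ := card_sup_zpowers hHel (hB.2 y hyB)
      (mem_centralizer_iff_commute.2 fun x hx => hcB x (hHB hx) y hyB) hyH
    have heq : H ⊔ Subgroup.zpowers y = B :=
      Subgroup.eq_of_le_of_card_ge (sup_le hHB (Subgroup.zpowers_le.2 hyB)) (by rw [hcard, hHc])
    have hle : H ⊔ Subgroup.zpowers y ≤ cz r := sup_le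
      (fun x hx => mem_cz.2 (mem_centralizer_iff_commute.1 hr.2 x hx))
      (Subgroup.zpowers_le.2 (mem_cz.2 hyr))
    exact mem_centralizer_iff_commute.2 fun x hx => mem_cz.1 (hle (heq ▸ hx))
  have hyR : ∀ y ∈ B, y ∈ Subgroup.normalizer (R : Set G) := fun y hy => mem_normalizer_inf (hBQ hy)
    (mem_normalizer_centralizer_of_forall (mem_centralizer_iff_commute.2 fun x hx => hcB x (hHB hx) y hy))
  obtain ⟨y, hyB, hyH⟩ : ∃ y ∈ B, y ∉ H := exists_mem_notMem_of_card (by
    rw [← hHc]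
    have := (h.bot_lt_card hc hHc).1
    nlinarith [hpF.out.two_le])
  have huniq : ∀ a ∈ R, a * a = 1 → a = 1 ∨ a = t := by
    intro u hu huu
    by_contra hcon
    push Not at hcon
    have hut : InvPair u t := ⟨huu, ht, hcon.1, ht1, hcon.2, hQt u hu.1⟩
    have hyu : ¬ Commute y u := fun hyu => h.no_four hB hc hut (key y hyB hyH u hu hyu) htB
    have hyt : Commute y t := mem_centralizer_iff_commute.1 htB y hyB
    set v := y * u * y⁻¹ with hv
    have hvR : v ∈ R := conj_mem (hyR y hyB) hu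
    have hvv : v * v = 1 := by
      rw [hv, show y * u * y⁻¹ * (y * u * y⁻¹) = y * (u * u) * y⁻¹ by group, huu]; group
    have huv : ¬ Commute u v := by
      intro huv
      refine h.no_eight hHel hHk hut hvv huv.symm (hQt v hvR.1) (fun hh => hcon.1 (conj_eq_one_iff.1 hh))
        (fun hh => hyu (mul_inv_eq_iff_eq_mul.1 hh)) ?_ ?_ hu.2 htH hvR.2
      · intro hh
        apply hcon.2
        have : y * u * y⁻¹ = y * t * y⁻¹ := by rw [hyt.eq, mul_inv_cancel_right]; exact hh
        exact mul_left_cancel (mul_right_cancel this)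
      · intro hh
        refine hyu (commute_of_pow (hB.2 y hyB) (two_coprime h.hp2) ?_)
        have e1 : y * (u * t) * y⁻¹ = (y * u * y⁻¹) * (y * t * y⁻¹) := by group
        have e2 : y * t * y⁻¹ = t := by rw [hyt.eq, mul_inv_cancel_right]
        have e : y ^ 2 * u * (y ^ 2)⁻¹ = u := by
          rw [pow_two]
          calc y * y * u * (y * y)⁻¹ = y * (y * u * y⁻¹) * y⁻¹ := by group
            _ = y * (u * t) * y⁻¹ := by rw [show y * u * y⁻¹ = u * t from hh]
            _ = u := by rw [e1, e2, show y * u * y⁻¹ = u * t from hh, mul_assoc, ht, mul_one]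
        exact mul_inv_eq_iff_eq_mul.1 e
    set w := u * v with hw
    have hwR : w ∈ R := mul_mem hu hvR
    have hinv : u * w * u⁻¹ = w⁻¹ := by
      rw [hw, mul_inv_rev, inv_eq_of_mul_eq_one_right huu, inv_eq_of_mul_eq_one_right hvv]
      calc u * (u * v) * u = (u * u) * v * u := by group
        _ = v * u := by rw [huu, one_mul]
    obtain ⟨n, hn⟩ := IsPGroup.iff_orderOf.1 (IsPGroup.to_le hQp inf_le_left : IsPGroup 2 R) ⟨w, hwR⟩
    have hn' : orderOf w = 2 ^ n := by rw [← hn, Subgroup.orderOf_mk]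
    have hn2 : 2 ≤ n := by
      by_contra hlt
      apply huv
      have hw2 : w ^ 2 = 1 := orderOf_dvd_iff_pow_eq_one.1 (hn' ▸ (Nat.pow_dvd_pow 2 (by omega : n ≤ 1)))
      rw [pow_two] at hw2
      show u * v = v * u
      calc u * v = w := rfl
        _ = w⁻¹ := (inv_eq_of_mul_eq_one_right hw2).symm
        _ = v * u := by rw [hw, mul_inv_rev, inv_eq_of_mul_eq_one_right huu, inv_eq_of_mul_eq_one_right hvv]
    obtain ⟨n, rfl⟩ : ∃ j, n = j + 2 := ⟨n - 2, by omega⟩
    set g := w ^ 2 ^ n with hg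
    set z := g * g with hz
    have hgR : g ∈ R := pow_mem hwR _
    have hz2 : z * z = 1 := by
      rw [hz, hg, ← pow_add, ← pow_add, show 2 ^ n + 2 ^ n + (2 ^ n + 2 ^ n) = 2 ^ (n + 2) by ring,
        ← hn', pow_orderOf_eq_one]
    have hz1 : z ≠ 1 := by
      rw [hz, hg, ← pow_add]
      intro hh
      have := Nat.le_of_dvd (by positivity) (hn' ▸ orderOf_dvd_of_pow_eq_one hh)
      rw [pow_add] at this
      have : 0 < 2 ^ n := by positivity
      omega
    have hgu : u * g * u⁻¹ = g⁻¹ := by rw [hg, ← conj_pow, hinv, inv_pow]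
    have hzu : Commute z u := by
      have : u * z * u⁻¹ = z⁻¹ := by
        calc u * (g * g) * u⁻¹ = (u * g * u⁻¹) * (u * g * u⁻¹) := by group
          _ = g⁻¹ * g⁻¹ := by rw [hgu]
          _ = (g * g)⁻¹ := by group
      rw [inv_eq_of_mul_eq_one_right hz2] at this
      exact (mul_inv_eq_iff_eq_mul.1 this).symm
    have hzt : z = t := by
      by_contra hzt
      have hcw : Commute z w := by
        rw [hz, hg]
        exact ((Commute.refl w).pow_left _).mul_left ((Commute.refl w).pow_left _)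
      have hnot : ¬ Commute u w := fun hh => by
        apply huv
        have h1 : Commute u (u⁻¹ * w) := (Commute.refl u).inv_right.mul_right hh
        rwa [hw, inv_mul_cancel_left] at h1
      refine h.no_eight hHel hHk hut hz2 hzu (hQt z (mul_mem hgR hgR).1) hz1 ?_ hzt ?_ hu.2 htH
        (mul_mem hgR hgR).2
      · exact fun hh => hnot (hh ▸ hcw)
      · intro hh
        have h1 : Commute (u * t) w := hh ▸ hcw
        have h2 : Commute (u * t * t⁻¹) w := h1.mul_left (hQt w hwR.1).symm.inv_left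
        exact hnot (by rwa [mul_inv_cancel_right] at h2)
    refine h.no_sym hHel hHk hut hu.2 htH hgR.2 (Or.inl ⟨?_, ?_⟩) hsmall
    · have e : u * g⁻¹ = g * u := by
        calc u * g⁻¹ = u * (u * g * u⁻¹) := by rw [hgu]
          _ = (u * u) * g * u⁻¹ := by group
          _ = g * u := by rw [huu, one_mul, inv_eq_of_mul_eq_one_right huu]
      calc g * u * g⁻¹ = g * (u * g⁻¹) := by group
        _ = z * u := by rw [e, hz]; group
        _ = u * t := by rw [hzu.eq, hzt]
    · rw [(hQt g hgR.1).eq, mul_inv_cancel_right]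
  obtain ⟨v, hv, q, hq, hqH, hvq⟩ := hne
  have hres : ∀ y ∈ B, y ∉ H → QEight R t ∧ ∀ r ∈ R, Commute y r → r = 1 ∨ r = t := fun y hy hyH' =>
    qEight_of_unique h.hp2 (IsPGroup.to_le hQp inf_le_left) ⟨htQ, htH⟩ ht ht1 huniq (hB.2 y hy)
      (hyR y hy) (mem_centralizer_iff_commute.1 htB y hy)
      (by
        by_contra hh
        push Not at hh
        exact hvq (mem_centralizer_iff_commute.1 (key y hy hyH' q ⟨hq, hqH⟩ (hh q ⟨hq, hqH⟩)) v hv))
  exact ⟨(hres y hyB hyH).1, fun y hy hyH r hr hrH hyr => (hres y hy hyH).2 r ⟨hr, hrH⟩ hyr⟩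

end Hyp

end CfsgLib.Quasithin.Klinger
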