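import Cfsg.Agent.Lib.Quasithin.KlingerLocal
import Cfsg.Agent.Lib.TwoGroups.RankOne
import Cfsg.Agent.Lib.TwoGroups.Aut

/-!
Groups of characteristic `{2,p}` type: a four group with a symmetry centralising an elementary
abelian subgroup of rank `k - 1`, and the structure of the centralisers in `O₂` of hyperplanes.
-/

set_option autoImplicit false

namespace CfsgLib.Quasithin.Klinger

open Cfsg CfsgLib.Cores CfsgLib.CoprimeAction CfsgLib.ThompsonJ

universe u

/-- A subgroup `T` is small at some point. -/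
def HasSmall (p : ℕ) {G : Type u} [Group G] (T : Subgroup G) : Prop :=
  ∃ a ∈ T, a ≠ 1 ∧ ∀ c ∈ T, c ∈ locCore p a → c ∈ Subgroup.zpowers a

variable {G : Type u} [Group G] [Finite G] {p : ℕ} [hpF : Fact p.Prime] {k : ℕ}

/-- `T ∩ O_p(C(a))` is small for a closed point `a`. -/
theorem small_of_closed (hp2 : p ≠ 2) {B Q T : Subgroup G} (hB : IsElementaryAbelian p B)
    (hQ : IsPGroup 2 Q) (hBQ : B ≤ Subgroup.normalizer (Q : Set G))
    (hfaith : ∀ b ∈ B, (∀ q ∈ Q, Commute b q) → b = 1) (hTB : T ≤ B) (hT : T ≠ ⊥)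
    (hcl : IsClosedIn B Q T) : HasSmall p T := by
  obtain ⟨a, haT, ha1, hacl⟩ := exists_closed_point hp2 hB hQ hBQ hfaith (Nat.card T) T le_rfl hTB hT hcl
  refine ⟨a, haT, ha1, fun c hc hcP => hacl c (hTB hc) fun q hq hqa => ?_⟩
  have hca : Commute c a :=
    congrArg Subtype.val (hB.1.is_comm.comm (⟨c, hTB hc⟩ : B) ⟨a, hTB haT⟩)
  exact commute_of_mem_locCore hp2 hcP (X := Q ⊓ cz a) (IsPGroup.to_le hQ inf_le_left) inf_le_right
    (mem_normalizer_inf (hBQ (hTB hc)) (Subgroup.le_normalizer (mem_cz.2 hca)))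
    ⟨hq, mem_cz.2 (mem_centralizer_iff_commute.1 hqa a (Subgroup.mem_zpowers a)).symm⟩

/-- A power of exponent prime to `p` detects fixed points. -/
theorem commute_of_pow {y i : G} (hy : y ^ p = 1) {m : ℕ} (hm : m.Coprime p)
    (hc : Commute (y ^ m) i) : Commute y i := by
  obtain ⟨n, hn⟩ := exists_pow_eq_self_of_coprime (x := y) (n := m)
    (hm.coprime_dvd_right (orderOf_dvd_of_pow_eq_one hy))
  rw [← hn]
  exact hc.pow_left n

theorem two_coprime (hp2 : p ≠ 2) : (2 : ℕ).Coprime p :=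
  (Nat.coprime_primes Nat.prime_two hpF.out).2 (Ne.symm hp2)

theorem four_coprime (hp2 : p ≠ 2) : (4 : ℕ).Coprime p := by
  rw [show 4 = 2 ^ 2 by norm_num]
  exact (two_coprime hp2).pow_left 2

theorem quaternionTwo_facts :
    (∀ a b : QuaternionGroup 2, a * a ≠ 1 → b * b ≠ 1 → b ≠ a → b ≠ a⁻¹ →
        a * b = (a * a) * (b * a)) ∧
      (∀ a b : QuaternionGroup 2, a * a ≠ 1 → b * b ≠ 1 → a * a = b * b) ∧
      (∀ a b c : QuaternionGroup 2, a * a ≠ 1 → b * b ≠ 1 → c * c ≠ 1 → b ≠ a → b ≠ a⁻¹ → c ≠ b →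
        c ≠ b⁻¹ → c ≠ a → c ≠ a⁻¹ → a * b * c = 1 ∨ a * b * c = a * a) := by
  refine ⟨by decide +kernel, by decide +kernel, ?_⟩
  set_option synthInstance.maxSize 4000 in decide +kernel

/-- The properties of a quaternion group of order `8` in use. -/
structure QEight (R : Subgroup G) (t : G) : Prop where
  ht : t ∈ R
  cases : ∀ a ∈ R, a = 1 ∨ a = t ∨ a * a = t
  anti : ∀ a ∈ R, ∀ b ∈ R, a * a = t → b * b = t → b ≠ a → b ≠ a⁻¹ → a * b = t * (b * a)
  triple : ∀ a ∈ R, ∀ b ∈ R, ∀ c ∈ R, a * a = t → b * b = t → c * c = t → b ≠ a → b ≠ a⁻¹ → c ≠ b →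
    c ≠ b⁻¹ → c ≠ a → c ≠ a⁻¹ → a * b * c = 1 ∨ a * b * c = t

/-- A `2`-group with one involution and a nontrivial automorphism of odd prime order is `Q₈`. -/
theorem qEight_of_unique (hp2 : p ≠ 2) {R : Subgroup G} (hR : IsPGroup 2 R) {t y : G}
    (htR : t ∈ R) (ht : t * t = 1) (ht1 : t ≠ 1) (huniq : ∀ a ∈ R, a * a = 1 → a = 1 ∨ a = t)
    (hy : y ^ p = 1) (hyR : y ∈ Subgroup.normalizer (R : Set G)) (hyt : Commute y t)
    (hmove : ∃ r ∈ R, ¬ Commute y r) :
    QEight R t ∧ ∀ r ∈ R, Commute y r → r = 1 ∨ r = t := by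
  classical
  haveI : Fact (Nat.Prime 2) := ⟨Nat.prime_two⟩
  let φ : MulAut R :=
    { toFun := fun r => ⟨y * r * y⁻¹, conj_mem hyR r.2⟩
      invFun := fun r => ⟨y⁻¹ * r * y, by
        have := conj_mem (inv_mem hyR) r.2
        rwa [inv_inv] at this⟩
      left_inv := fun r => Subtype.ext (show y⁻¹ * (y * r * y⁻¹) * y = r by group)
      right_inv := fun r => Subtype.ext (show y * (y⁻¹ * r * y) * y⁻¹ = r by group)
      map_mul' := fun a b => Subtype.ext
        (show y * ((a : G) * b) * y⁻¹ = y * a * y⁻¹ * (y * b * y⁻¹) by group) }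
  have hφpow : ∀ n : ℕ, ∀ r : R, ((φ ^ n) r : G) = y ^ n * r * (y ^ n)⁻¹ := by
    intro n
    induction n with
    | zero => intro r; simp
    | succ n ih =>
      intro r
      rw [pow_succ', MulAut.mul_apply]
      show y * ((φ ^ n) r : G) * y⁻¹ = _
      rw [ih, pow_succ']
      group
  have hφp : φ ^ p = 1 := MulEquiv.ext fun r => Subtype.ext (by rw [hφpow, hy]; simp)
  have hφne : φ ≠ 1 := by
    obtain ⟨r, hr, hyr⟩ := hmove
    intro h
    apply hyr
    have h1 : y * r * y⁻¹ = r := congrArg Subtype.val (DFunLike.congr_fun h ⟨r, hr⟩)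
    exact mul_inv_eq_iff_eq_mul.1 h1
  have hnot : ¬ IsPGroup 2 (MulAut R) := by
    intro h2
    obtain ⟨n, hn⟩ := h2 φ
    apply hφne
    have hg := pow_gcd_eq_one.2 ⟨hn, hφp⟩
    rwa [((two_coprime hp2).pow_left n).gcd_eq_one, pow_one] at hg
  have hu : CfsgLib.TwoGroups.UniqueOrderP 2 R := by
    intro a b ha hb
    obtain ⟨a2, a1⟩ := orderOf_eq_prime_iff.1 ha
    obtain ⟨b2, b1⟩ := orderOf_eq_prime_iff.1 hb
    have key : ∀ r : R, r ^ 2 = 1 → r ≠ 1 → r = ⟨t, htR⟩ := by
      intro r r2 r1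
      rcases huniq r r.2 (by rw [← pow_two]; exact congrArg Subtype.val r2) with h | h
      · exact absurd (Subtype.ext h) r1
      · exact Subtype.ext h
    rw [key a a2 a1, key b b2 b1]
    exact Subgroup.mem_zpowers _
  rcases CfsgLib.TwoGroups.isCyclic_or_quaternion hR hu with hc | ⟨-, m, hm, ⟨e⟩⟩
  · haveI := hc
    exact absurd (CfsgLib.TwoGroups.isPGroup_mulAut_of_isCyclic hR) hnot
  obtain rfl : m = 1 := by
    by_contra hm1
    exact hnot (CfsgLib.TwoGroups.isPGroup_mulAut_congr e.symm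
      (CfsgLib.TwoGroups.isPGroup_mulAut_quaternion (by omega)))
  let e' : R ≃* QuaternionGroup 2 := e
  obtain ⟨F1, F2, F3⟩ := quaternionTwo_facts
  have hcases : ∀ a ∈ R, a = 1 ∨ a = t ∨ a * a = t := by
    intro a ha
    by_cases h1 : a * a = 1
    · rcases huniq a ha h1 with h | h
      · exact Or.inl h
      · exact Or.inr (Or.inl h)
    · refine Or.inr (Or.inr ?_)
      have hq : e' ⟨a, ha⟩ * e' ⟨a, ha⟩ ≠ 1 := by
        rw [← map_mul]
        intro hh
        exact h1 (congrArg Subtype.val (e'.injective (hh.trans (map_one e').symm)))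
      have h2 : a * a * (a * a) = 1 := by
        have h3 : ∀ q : QuaternionGroup 2, q * q * (q * q) = 1 := by decide +kernel
        have h4 := h3 (e' ⟨a, ha⟩)
        rw [← map_mul, ← map_mul] at h4
        exact congrArg Subtype.val (e'.injective (h4.trans (map_one e').symm))
      rcases huniq _ (mul_mem ha ha) h2 with h | h
      · exact absurd h h1
      · exact h
  have hsq : ∀ a ∈ R, ∀ ha : a ∈ R, a * a = t → e' ⟨a, ha⟩ * e' ⟨a, ha⟩ ≠ 1 := by
    intro a _ ha hat hh
    rw [← map_mul] at hh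
    have := congrArg Subtype.val (e'.injective (hh.trans (map_one e').symm))
    exact ht1 (hat ▸ this)
  have hne : ∀ a b : R, (a : G) ≠ b → e' a ≠ e' b := fun a b hab h =>
    hab (congrArg Subtype.val (e'.injective h))
  have hnei : ∀ a b : R, (a : G) ≠ (b : G)⁻¹ → e' a ≠ (e' b)⁻¹ := fun a b hab h =>
    hab (congrArg Subtype.val (e'.injective (h.trans (map_inv e' b).symm)))
  have hQ : QEight R t := by
    refine ⟨htR, hcases, ?_, ?_⟩
    · intro a ha b hb hat hbt h1 h2
      have h := F1 (e' ⟨a, ha⟩) (e' ⟨b, hb⟩) (hsq a ha ha hat) (hsq b hb hb hbt) (hne _ _ h1) (hnei _ _ h2)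
      simp only [← map_mul] at h
      have h' : a * b = a * a * (b * a) := congrArg Subtype.val (e'.injective h)
      rwa [hat] at h'
    · intro a ha b hb c hc hat hbt hct h1 h2 h3 h4 h5 h6
      have h := F3 (e' ⟨a, ha⟩) (e' ⟨b, hb⟩) (e' ⟨c, hc⟩) (hsq a ha ha hat) (hsq b hb hb hbt)
        (hsq c hc hc hct) (hne _ _ h1) (hnei _ _ h2) (hne _ _ h3) (hnei _ _ h4) (hne _ _ h5) (hnei _ _ h6)
      simp only [← map_mul] at h
      rcases h with h | h
      · exact Or.inl (congrArg Subtype.val (e'.injective (h.trans (map_one e').symm)))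
      · refine Or.inr ?_
        have h' : a * b * c = a * a := congrArg Subtype.val (e'.injective h)
        rwa [hat] at h'
  refine ⟨hQ, ?_⟩
  intro r hr hyr
  by_contra hcon
  push Not at hcon
  -- the fixed subgroup has order `4` or `8`, congruent to `8` modulo `p`
  set C : Subgroup G := R ⊓ cz y with hC
  have hcard : Nat.card R = 8 := by
    rw [Nat.card_congr e'.toEquiv, Nat.card_eq_fintype_card, QuaternionGroup.card]
  have hZ : IsPGroup p (Subgroup.zpowers y) :=
    isPGroup_of_isElementaryAbelian (isElementaryAbelian_zpowers hy)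
  have hzR : Subgroup.zpowers y ≤ Subgroup.normalizer (R : Set G) := Subgroup.zpowers_le.2 hyR
  letI act : MulAction (Subgroup.zpowers y) R :=
    { smul := fun g r => ⟨(g : G) * (r : G) * (g : G)⁻¹, conj_mem (hzR g.2) r.2⟩
      one_smul := fun r => Subtype.ext (show ((1 : Subgroup.zpowers y) : G) * (r : G) *
        ((1 : Subgroup.zpowers y) : G)⁻¹ = r by simp)
      mul_smul := fun a b r => Subtype.ext (show ((a * b : Subgroup.zpowers y) : G) * (r : G) *
        ((a * b : Subgroup.zpowers y) : G)⁻¹ = (a : G) * ((b : G) * (r : G) * (b : G)⁻¹) * (a : G)⁻¹ by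
          simp [mul_assoc]) }
  have hmod := hZ.card_modEq_card_fixedPoints R
  have hfp : Nat.card (MulAction.fixedPoints (Subgroup.zpowers y) R) = Nat.card C := by
    refine Nat.card_congr ⟨fun r => ⟨r.1, r.1.2, ?_⟩, fun c => ⟨⟨c, c.2.1⟩, ?_⟩, fun r => rfl, fun c => rfl⟩
    · have h1 : y * ((r.1 : R) : G) * y⁻¹ = ((r.1 : R) : G) :=
        congrArg Subtype.val (r.2 ⟨y, Subgroup.mem_zpowers y⟩)
      exact mem_cz.2 (show Commute y _ from mul_inv_eq_iff_eq_mul.1 h1).symm
    · rintro ⟨g, hg⟩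
      obtain ⟨n, rfl⟩ := Subgroup.mem_zpowers_iff.1 hg
      refine Subtype.ext ?_
      show y ^ n * (c : G) * (y ^ n)⁻¹ = c
      rw [((mem_cz.1 c.2.2).symm.zpow_left n).eq, mul_inv_cancel_right]
  rw [hfp, hcard] at hmod
  have h4 : 2 < Nat.card C := by
    have hsub : ({1, t, r} : Set G) ⊆ (C : Set G) := by
      rintro x (rfl | rfl | rfl)
      · exact one_mem _
      · exact ⟨htR, mem_cz.2 hyt.symm⟩
      · exact ⟨hr, mem_cz.2 hyr.symm⟩
    have := Set.ncard_le_ncard hsub (Set.toFinite _)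
    rw [Set.ncard_eq_three.2 ⟨1, t, r, ht1.symm, hcon.1.symm, hcon.2.symm, rfl⟩] at this
    exact this
  have hd : Nat.card C ∣ 8 := hcard ▸ Subgroup.card_dvd_of_le inf_le_left
  have hC8 : Nat.card C ≠ 8 := by
    intro h8
    obtain ⟨s, hs, hys⟩ := hmove
    have : C = R := Subgroup.eq_of_le_of_card_ge inf_le_left (by rw [h8, hcard])
    exact hys (mem_cz.1 (this.ge hs).2).symm
  have hCle := Nat.le_of_dvd (by norm_num) hd
  have hC4 : Nat.card C = 4 := by interval_cases (Nat.card C) <;> omega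
  rw [hC4] at hmod
  have hdvd : p ∣ 4 := (Nat.modEq_iff_dvd' (by norm_num)).1 hmod.symm
  have h2 : p ∣ 2 := hpF.out.dvd_of_dvd_pow (show p ∣ 2 ^ 2 from hdvd)
  exact hp2 ((Nat.prime_dvd_prime_iff_eq hpF.out Nat.prime_two).1 h2)

namespace Hyp

variable (h : Hyp p k G)
include h

/-- No four group with a symmetry centralises an elementary abelian subgroup of rank `k - 1`. -/
theorem no_sym {T : Subgroup G} (hT : IsElementaryAbelian p T) (hc : Nat.card T * p = p ^ k)
    {u t g : G} (hut : InvPair u t) (huT : u ∈ Subgroup.centralizer (T : Set G))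
    (htT : t ∈ Subgroup.centralizer (T : Set G)) (hgT : g ∈ Subgroup.centralizer (T : Set G))
    (hsym : (g * u * g⁻¹ = u * t ∧ g * t * g⁻¹ = t) ∨ (g * u * g⁻¹ = t ∧ g * t * g⁻¹ = u * t))
    (hsmall : HasSmall p T) : False := by
  have hcT : ∀ x ∈ T, ∀ y ∈ T, Commute x y := fun x hx y hy =>
    congrArg Subtype.val (hT.1.is_comm.comm (⟨x, hx⟩ : T) ⟨y, hy⟩)
  have hcard : p < Nat.card T := by
    by_contra hle
    push Not at hle
    have h3 : p ^ 3 ≤ p ^ k := Nat.pow_le_pow_right hpF.out.pos h.hk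
    have : Nat.card T * p ≤ p * p := Nat.mul_le_mul_right p hle
    nlinarith [hpF.out.two_le, pow_pos hpF.out.pos 2]
  have hFT : Subgroup.zpowers u ≤ Subgroup.centralizer (T : Set G) := Subgroup.zpowers_le.2 huT
  have htF : t ∈ Subgroup.centralizer (Subgroup.zpowers u : Set G) := by
    rw [mem_centralizer_iff_commute]
    intro z hz
    obtain ⟨n, rfl⟩ := Subgroup.mem_zpowers_iff.1 hz
    exact hut.comm.zpow_left n
  have hcu : ∀ x, x ∈ Subgroup.centralizer (Subgroup.zpowers u : Set G) → Commute x u := fun x hx =>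
    (mem_centralizer_iff_commute.1 hx u (Subgroup.mem_zpowers u)).symm
  have hxnot : ∀ x, x ^ p = 1 → x ≠ 1 → t * x * t⁻¹ = x⁻¹ → x ∉ T := fun x hxp hx1 hxt hxm =>
    hx1 (eq_one_of_inverted (p := p) h.hp2 hxt (mem_centralizer_iff_commute.1 htT x hxm)
      ⟨1, by rw [pow_one, hxp]⟩)
  refine h.main hT hcard hut.hf hut.he hut.hne (Subgroup.mem_zpowers u) hFT htT htF ?_ ?_ ?_ hsmall
  · intro x y hxT hxF hyT hyF hxp hyp hx1 hxt hyt hxy
    by_contra hyx
    obtain ⟨he1, hc1⟩ := card_sup_zpowers hT hxp hxT (hxnot x hxp hx1 hxt)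
    have hyc : y ∈ Subgroup.centralizer ((T ⊔ Subgroup.zpowers x : Subgroup G) : Set G) := by
      have hle : T ⊔ Subgroup.zpowers x ≤ cz y := sup_le
        (fun b hb => mem_cz.2 (mem_centralizer_iff_commute.1 hyT b hb))
        (Subgroup.zpowers_le.2 (mem_cz.2 hxy))
      exact mem_centralizer_iff_commute.2 fun b hb => mem_cz.1 (hle hb)
    have hyn : y ∉ T ⊔ Subgroup.zpowers x := by
      intro hy
      have hy' : y ∈ ((T ⊔ Subgroup.zpowers x : Subgroup G) : Set G) := hy
      rw [Subgroup.coe_mul_of_left_le_normalizer_right _ _ (le_trans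
        (fun b hb => mem_centralizer_iff_commute.2 fun z hz => by
          obtain ⟨n, rfl⟩ := Subgroup.mem_zpowers_iff.1 hz
          exact (mem_centralizer_iff_commute.1 hxT b hb).symm.zpow_left n)
        (Subgroup.centralizer_le_normalizer _))] at hy'
      obtain ⟨τ, hτ, z, hz, hyz⟩ := hy'
      obtain ⟨n, rfl⟩ := Subgroup.mem_zpowers_iff.1 hz
      have hyz : τ * x ^ n = y := hyz
      have hτc : Commute τ t := mem_centralizer_iff_commute.1 htT τ hτ
      have hτx : Commute τ x := mem_centralizer_iff_commute.1 hxT τ hτ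
      have e1 : t * y * t⁻¹ = τ * (x ^ n)⁻¹ := by
        rw [← hyz]
        calc t * (τ * x ^ n) * t⁻¹ = (t * τ * t⁻¹) * (t * x * t⁻¹) ^ n := by rw [conj_zpow]; group
          _ = τ * (x ^ n)⁻¹ := by rw [← hτc.eq, mul_inv_cancel_right, hxt, inv_zpow]
      rw [hyt, ← hyz, mul_inv_rev, ((hτx.zpow_right n).inv_inv).eq.symm] at e1
      have hτ2 : τ ^ 2 = 1 := by
        have := mul_right_cancel e1
        rw [inv_eq_iff_mul_eq_one] at this
        rwa [pow_two]
      have hτ1 : τ = 1 := by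
        have hg := pow_gcd_eq_one.2 ⟨hτ2, hT.2 τ hτ⟩
        rwa [(two_coprime h.hp2).gcd_eq_one, pow_one] at hg
      rw [hτ1, one_mul] at hyz
      exact hyx ⟨n, hyz⟩
    obtain ⟨he2, hc2⟩ := card_sup_zpowers he1 hyp hyc hyn
    have := h.rank_cz he2 hut.he hut.hne (sup_le (sup_le
      (fun b hb => mem_centralizer_iff_commute.2 fun z hz => by
        obtain ⟨n, rfl⟩ := Subgroup.mem_zpowers_iff.1 hz
        exact (mem_centralizer_iff_commute.1 huT b hb).symm.zpow_left n)
      (Subgroup.zpowers_le.2 hxF)) (Subgroup.zpowers_le.2 hyF))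
    rw [hc2, hc1] at this
    nlinarith [hpF.out.two_le, pow_pos hpF.out.pos k]
  · intro c hcT' hcF hcp hct
    by_contra hcm
    obtain ⟨he1, hc1⟩ := card_sup_zpowers hT hcp hcT' hcm
    have hmem : ∀ w, w ∈ Subgroup.centralizer (T : Set G) → Commute c w →
        w ∈ Subgroup.centralizer ((T ⊔ Subgroup.zpowers c : Subgroup G) : Set G) := fun w hw hcw => by
      have hle : T ⊔ Subgroup.zpowers c ≤ cz w := sup_le
        (fun b hb => mem_cz.2 (mem_centralizer_iff_commute.1 hw b hb))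
        (Subgroup.zpowers_le.2 (mem_cz.2 hcw))
      exact mem_centralizer_iff_commute.2 fun b hb => mem_cz.1 (hle hb)
    exact h.no_four he1 (by rw [hc1, hc]) hut (hmem u huT (hcu c hcF)) (hmem t htT hct)
  · intro a haT ha1
    by_contra hcon
    push Not at hcon
    set P := locCore p a ⊓ Subgroup.centralizer (T : Set G) with hP
    have hnorm : ∀ y ∈ Subgroup.centralizer (T : Set G), y ∈ Subgroup.normalizer (P : Set G) :=
      fun y hy => mem_normalizer_inf
        (le_normalizer_locCore p a (mem_cz.2 (mem_centralizer_iff_commute.1 hy a haT).symm))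
        (mem_normalizer_centralizer_of_forall hy)
    have hA : ∀ q ∈ P, Commute q u → Commute q t := by
      intro q hq hqu
      refine hcon q hq.1 hq.2 ?_
      rw [mem_centralizer_iff_commute]
      intro z hz
      obtain ⟨n, rfl⟩ := Subgroup.mem_zpowers_iff.1 hz
      exact hqu.symm.zpow_left n
    have hback : ∀ q ∈ P, ∀ w, Commute q (g * w * g⁻¹) →
        g⁻¹ * q * g ∈ P ∧ Commute (g⁻¹ * q * g) w := by
      intro q hq w hw
      refine ⟨?_, ?_⟩
      · have := conj_mem (inv_mem (hnorm g hgT)) hq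
        rwa [inv_inv] at this
      · refine (commute_conj_iff g).1 ?_
        rwa [show g * (g⁻¹ * q * g) * g⁻¹ = q by group]
    have hfwd : ∀ q w, Commute (g⁻¹ * q * g) w → Commute q (g * w * g⁻¹) := fun q w hw => by
      have := commute_conj g hw
      rwa [show g * (g⁻¹ * q * g) * g⁻¹ = q by group] at this
    have hall : ∀ q ∈ P, Commute q t := by
      intro q hq
      refine commute_of_pair h.hp2 hut (IsPGroup.to_le (isPGroup_locCore p a) inf_le_left)
        (hnorm u huT) (hnorm t htT) hA (fun _ _ h => h) ?_ hq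
      intro q hq hq3
      rcases hsym with ⟨s1, s2⟩ | ⟨s1, s2⟩
      · rw [← s1] at hq3
        obtain ⟨hqP, hqc⟩ := hback q hq u hq3
        have := hfwd q t (hA _ hqP hqc)
        rwa [s2] at this
      · rw [← s2] at hq3
        obtain ⟨hqP, hqc⟩ := hback q hq t hq3
        -- `g⁻¹ q g` commutes with `t`, so with `u * t`, so with `u`
        rw [← s1] at hqc
        obtain ⟨hqP', hqc'⟩ := hback _ hqP u hqc
        have h4 := hfwd _ t (hA _ hqP' hqc')
        rw [s2] at h4
        rw [s1] at hqc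
        have h5 : Commute (g⁻¹ * q * g) u := by
          have h6 := h4.mul_right hqc
          rwa [mul_assoc u t t, hut.hf, mul_one] at h6
        have := hfwd q u h5
        rwa [s1] at this
    exact hut.hnf (h.faithful_p (isPGroup_of_isElementaryAbelian hT) haT ha1
      (fun x hx => hcT x hx a haT) (coprime_of_sq h.hp2 (by rw [pow_two, hut.hf])) htT
      fun q hq hqT => (hall q ⟨hq, hqT⟩).symm)

end Hyp

end CfsgLib.Quasithin.Klinger
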